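import Mathlib

/-!
# Retractions of `A → C` from linear retractions of `I → K`

Let `A → C → A₀` with `A → A₀` surjective with square-zero kernel `I`, and `K = ker (C → A₀)`.
An `A`-linear map `θ : K → A` with values in `I`, restricting to the identity on `I` and vanishing on
`K²` gives an `A`-algebra retraction `ρ : C → A` compatible with the projections to `A₀`.
-/

set_option autoImplicit false

namespace Groth.Agent.Lib.Helper7.SqZero

universe u

variable (A C A₀ : Type u) [CommRing A] [CommRing C] [CommRing A₀] [Algebra A C] [Algebra A A₀]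
  [Algebra C A₀] [IsScalarTower A C A₀]

theorem exists_retraction_of_theta
    (hsurj : Function.Surjective (algebraMap A A₀))
    (hI : ∀ x y : A, algebraMap A A₀ x = 0 → algebraMap A A₀ y = 0 → x * y = 0)
    (θ : C → A)
    (hθI : ∀ k, algebraMap C A₀ k = 0 → algebraMap A A₀ (θ k) = 0)
    (hθadd : ∀ k k', algebraMap C A₀ k = 0 → algebraMap C A₀ k' = 0 → θ (k + k') = θ k + θ k')
    (hθsmul : ∀ (a : A) k, algebraMap C A₀ k = 0 → θ (algebraMap A C a * k) = a * θ k)
    (hθφ : ∀ x, algebraMap A A₀ x = 0 → θ (algebraMap A C x) = x)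
    (hθmul : ∀ k k', algebraMap C A₀ k = 0 → algebraMap C A₀ k' = 0 → θ (k * k') = 0) :
    ∃ ρ : C →ₐ[A] A, ∀ c, algebraMap A A₀ (ρ c) = algebraMap C A₀ c := by
  have hφ : ∀ a : A, algebraMap C A₀ (algebraMap A C a) = algebraMap A A₀ a := fun a =>
    (IsScalarTower.algebraMap_apply A C A₀ a).symm
  have hex : ∀ c : C, ∃ a : A, algebraMap A A₀ a = algebraMap C A₀ c := fun c => hsurj _
  choose a ha using hex
  have hk : ∀ c a', algebraMap A A₀ a' = algebraMap C A₀ c →
      algebraMap C A₀ (c - algebraMap A C a') = 0 := by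
    intro c a' h
    rw [map_sub, hφ, h, sub_self]
  have hθ0 : θ 0 = 0 := by
    have := hθφ 0 (map_zero _)
    rwa [map_zero] at this
  -- the key formula
  have W : ∀ c a', algebraMap A A₀ a' = algebraMap C A₀ c →
      a c + θ (c - algebraMap A C (a c)) = a' + θ (c - algebraMap A C a') := by
    intro c a' h
    have h1 : algebraMap A A₀ (a c - a') = 0 := by rw [map_sub, ha, h, sub_self]
    have h2 : c - algebraMap A C a' = (c - algebraMap A C (a c)) + algebraMap A C (a c - a') := by
      rw [map_sub]; ring
    rw [h2, hθadd _ _ (hk c _ (ha c)) (by rw [hφ]; exact h1), hθφ _ h1]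
    ring
  refine ⟨{ toFun := fun c => a c + θ (c - algebraMap A C (a c))
            map_one' := ?_, map_mul' := ?_, map_zero' := ?_, map_add' := ?_, commutes' := ?_ }, ?_⟩
  · rw [W 1 1 (by rw [map_one, map_one]), map_one, sub_self, hθ0, add_zero]
  · intro c c'
    have h1 : algebraMap A A₀ (a c * a c') = algebraMap C A₀ (c * c') := by
      rw [map_mul, map_mul, ha, ha]
    rw [W (c * c') (a c * a c') h1]
    have hkc := hk c _ (ha c)
    have hkc' := hk c' _ (ha c')
    have h2 : c * c' - algebraMap A C (a c * a c') =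
        (c - algebraMap A C (a c)) * (c' - algebraMap A C (a c')) +
        (algebraMap A C (a c') * (c - algebraMap A C (a c)) +
          algebraMap A C (a c) * (c' - algebraMap A C (a c'))) := by
      rw [map_mul]; ring
    have h3 : algebraMap C A₀ (algebraMap A C (a c') * (c - algebraMap A C (a c))) = 0 := by
      rw [map_mul, hkc, mul_zero]
    have h4 : algebraMap C A₀ (algebraMap A C (a c) * (c' - algebraMap A C (a c'))) = 0 := by
      rw [map_mul, hkc', mul_zero]
    have h5 : algebraMap C A₀ ((c - algebraMap A C (a c)) * (c' - algebraMap A C (a c'))) = 0 := by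
      rw [map_mul, hkc, zero_mul]
    rw [h2, hθadd _ _ h5 (by rw [map_add, h3, h4, add_zero]), hθadd _ _ h3 h4,
      hθmul _ _ hkc hkc', hθsmul _ _ hkc, hθsmul _ _ hkc']
    have h6 := hI _ _ (hθI _ hkc) (hθI _ hkc')
    linear_combination -h6
  · rw [W 0 0 (by rw [map_zero, map_zero]), map_zero, sub_self, hθ0, add_zero]
  · intro c c'
    have h1 : algebraMap A A₀ (a c + a c') = algebraMap C A₀ (c + c') := by
      rw [map_add, map_add, ha, ha]
    rw [W (c + c') (a c + a c') h1]
    have h2 : c + c' - algebraMap A C (a c + a c') =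
        (c - algebraMap A C (a c)) + (c' - algebraMap A C (a c')) := by
      rw [map_add]; ring
    rw [h2, hθadd _ _ (hk c _ (ha c)) (hk c' _ (ha c'))]
    ring
  · intro b
    show a (algebraMap A C b) + θ (algebraMap A C b - algebraMap A C (a (algebraMap A C b))) = _
    rw [W (algebraMap A C b) b (hφ b).symm, sub_self, hθ0, add_zero]
    rfl
  · intro c
    show algebraMap A A₀ (a c + θ (c - algebraMap A C (a c))) = _
    rw [map_add, ha, hθI _ (hk c _ (ha c)), add_zero]

end Groth.Agent.Lib.Helper7.SqZero
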