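import Mathlib
import Groth.Agent.Lib.Helper7.SqZero.Retraction

/-!
# Splitting the cotangent sequence gives a retraction

`A → C → A₀`, `A → A₀` surjective with square-zero kernel `I`, `K = ker (C → A₀)`.
If `A₀ ⊗[C] Ω[C⁄A]` is a projective `A₀`-module and `I → K/K²` is injective, then there is an
`A`-algebra retraction `C → A` compatible with the projections to `A₀`.
-/

set_option autoImplicit false

namespace Groth.Agent.Lib.Helper7.SqZero

universe u

open TensorProduct KaehlerDifferential Algebra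

variable (A C A₀ : Type u) [CommRing A] [CommRing C] [CommRing A₀] [Algebra A C] [Algebra A A₀]
  [Algebra C A₀] [IsScalarTower A C A₀]

/-- The extension `C → A₀` of `A`-algebras. -/
noncomputable abbrev ext (h : Function.Surjective (algebraMap C A₀)) :
    Algebra.Extension.{u} A A₀ where
  Ring := C
  σ x := (h x).choose
  algebraMap_σ x := (h x).choose_spec

variable (h : Function.Surjective (algebraMap C A₀))

/-- The class of an element of the kernel in the cotangent module. -/
noncomputable def mkK (c : C) (hc : algebraMap C A₀ c = 0) : (ext A C A₀ h).Cotangent :=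
  Extension.Cotangent.mk ⟨c, RingHom.mem_ker.mpr hc⟩

theorem mkK_add (c c' : C) (hc hc') (hcc') :
    mkK A C A₀ h (c + c') hcc' = mkK A C A₀ h c hc + mkK A C A₀ h c' hc' := by
  unfold mkK
  rw [← map_add]
  rfl

theorem mkK_sub (c c' : C) (hc hc') (hcc') :
    mkK A C A₀ h (c - c') hcc' = mkK A C A₀ h c hc - mkK A C A₀ h c' hc' := by
  unfold mkK
  rw [← map_sub]
  rfl

/-- An element of `C` as an element of the ring of the extension. -/
def toRing (c : C) : (ext A C A₀ h).Ring := c

theorem mkK_smul (c k : C) (hk) (hck) :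
    mkK A C A₀ h (c * k) hck = toRing A C A₀ h c • mkK A C A₀ h k hk := by
  unfold mkK
  have e : (⟨c * k, RingHom.mem_ker.mpr hck⟩ : (ext A C A₀ h).ker) =
      toRing A C A₀ h c • (⟨k, RingHom.mem_ker.mpr hk⟩ : (ext A C A₀ h).ker) :=
    Subtype.ext rfl
  rw [e, map_smul]

theorem mkK_eq_iff (c c' : C) (hc hc') :
    mkK A C A₀ h c hc = mkK A C A₀ h c' hc' ↔ c - c' ∈ (RingHom.ker (algebraMap C A₀)) ^ 2 :=
  Extension.Cotangent.mk_eq_mk_iff_sub_mem _ _

theorem mkK_congr (c c' : C) (hc) (e : c = c') :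
    mkK A C A₀ h c hc = mkK A C A₀ h c' (e ▸ hc) := by
  subst e; rfl

theorem exists_eq_mkK (m : (ext A C A₀ h).Cotangent) : ∃ k hk, m = mkK A C A₀ h k hk := by
  obtain ⟨⟨k, hk⟩, rfl⟩ := Extension.Cotangent.mk_surjective m
  exact ⟨k, RingHom.mem_ker.mp hk, rfl⟩

theorem cotangentComplex_mkK (c : C) (hc) :
    (ext A C A₀ h).cotangentComplex (mkK A C A₀ h c hc) = (1 : A₀) ⊗ₜ[C] D A C c :=
  rfl

theorem mkK_smul' (c k : C) (hk) (hck) :
    mkK A C A₀ h (c * k) hck = c • mkK A C A₀ h k hk :=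
  mkK_smul A C A₀ h c k hk hck

theorem smul_eq_algebraMap_smul (c : C) (m : (ext A C A₀ h).Cotangent) :
    c • m = (algebraMap C A₀ c) • m :=
  (algebraMap_smul A₀ c m).symm

theorem mkK_zero (c : C) (hc) (e : c = 0) : mkK A C A₀ h c hc = 0 := by
  subst e
  unfold mkK
  exact map_zero _

theorem hφ0 (x : A) (hx : algebraMap A A₀ x = 0) : algebraMap C A₀ (algebraMap A C x) = 0 := by
  rw [← IsScalarTower.algebraMap_apply]; exact hx

/-- The submodule of classes of elements of `I = ker (A → A₀)`. -/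
noncomputable def Isub : Submodule A₀ (ext A C A₀ h).Cotangent :=
  Submodule.span A₀ {m | ∃ (x : A) (hx : algebraMap A A₀ x = 0),
    m = mkK A C A₀ h (algebraMap A C x) (hφ0 A C A₀ x hx)}

theorem mem_Isub_iff (hsurj : Function.Surjective (algebraMap A A₀))
    (m : (ext A C A₀ h).Cotangent) :
    m ∈ Isub A C A₀ h ↔ ∃ (x : A) (hx : algebraMap A A₀ x = 0),
      m = mkK A C A₀ h (algebraMap A C x) (hφ0 A C A₀ x hx) := by
  constructor
  · intro hm
    unfold Isub at hm
    induction hm using Submodule.span_induction with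
    | mem m hm => exact hm
    | zero => exact ⟨0, map_zero _, (mkK_zero A C A₀ h _ _ (map_zero _)).symm⟩
    | add m m' _ _ hm hm' =>
      obtain ⟨x, hx, rfl⟩ := hm
      obtain ⟨x', hx', rfl⟩ := hm'
      refine ⟨x + x', by rw [map_add, hx, hx', add_zero], ?_⟩
      rw [← mkK_add A C A₀ h _ _ _ _ (by rw [map_add, hφ0 A C A₀ x hx, hφ0 A C A₀ x' hx', add_zero])]
      exact mkK_congr A C A₀ h _ _ _ (map_add _ _ _).symm
    | smul r m _ hm =>
      obtain ⟨x, hx, rfl⟩ := hm
      obtain ⟨a, rfl⟩ := hsurj r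
      refine ⟨a * x, by rw [map_mul, hx, mul_zero], ?_⟩
      calc algebraMap A A₀ a • mkK A C A₀ h (algebraMap A C x) (hφ0 A C A₀ x hx)
          = a • mkK A C A₀ h (algebraMap A C x) (hφ0 A C A₀ x hx) := algebraMap_smul A₀ a _
        _ = (algebraMap A C a) • mkK A C A₀ h (algebraMap A C x) (hφ0 A C A₀ x hx) :=
            (algebraMap_smul C a _).symm
        _ = mkK A C A₀ h (algebraMap A C a * algebraMap A C x)
              (by rw [map_mul, hφ0 A C A₀ x hx, mul_zero]) := (mkK_smul' A C A₀ h _ _ _ _).symm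
        _ = _ := mkK_congr A C A₀ h _ _ _ (map_mul _ _ _).symm
  · rintro ⟨x, hx, rfl⟩
    exact Submodule.subset_span ⟨x, hx, rfl⟩

/-- Exactness of the Jacobi–Zariski sequence at `K/K²`: the kernel of the cotangent complex of
`C → A₀` consists of classes of elements of `I`. -/
theorem mem_Isub_of_cotangentComplex_eq_zero (hsurj : Function.Surjective (algebraMap A A₀))
    (m : (ext A C A₀ h).Cotangent) (hm : (ext A C A₀ h).cotangentComplex m = 0) :
    m ∈ Isub A C A₀ h := by
  classical
  have hφ : ∀ a : A, algebraMap C A₀ (algebraMap A C a) = algebraMap A A₀ a := fun a =>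
    (IsScalarTower.algebraMap_apply A C A₀ a).symm
  have hex : ∀ c : C, ∃ a : A, algebraMap A A₀ a = algebraMap C A₀ c := fun c => hsurj _
  choose a ha using hex
  have hk : ∀ c a', algebraMap A A₀ a' = algebraMap C A₀ c →
      algebraMap C A₀ (c - algebraMap A C a') = 0 := by
    intro c a' h'
    rw [map_sub, hφ, h', sub_self]
  -- key formula
  have W : ∀ c a' (ha' : algebraMap A A₀ a' = algebraMap C A₀ c),
      (Submodule.Quotient.mk (mkK A C A₀ h (c - algebraMap A C (a c)) (hk c _ (ha c))) :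
        (ext A C A₀ h).Cotangent ⧸ Isub A C A₀ h) =
      Submodule.Quotient.mk (mkK A C A₀ h (c - algebraMap A C a') (hk c a' ha')) := by
    intro c a' ha'
    rw [Submodule.Quotient.eq, ← mkK_sub A C A₀ h _ _ _ _
      (by rw [map_sub, hk c _ (ha c), hk c a' ha', sub_self]), mem_Isub_iff A C A₀ h hsurj]
    refine ⟨a' - a c, by rw [map_sub, ha', ha, sub_self], ?_⟩
    exact mkK_congr A C A₀ h _ _ _ (by rw [map_sub]; ring)
  let Dlin : C →ₗ[A] ((ext A C A₀ h).Cotangent ⧸ Isub A C A₀ h) :=
    { toFun := fun c =>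
        Submodule.Quotient.mk (mkK A C A₀ h (c - algebraMap A C (a c)) (hk c _ (ha c)))
      map_add' := by
        intro c c'
        rw [W (c + c') (a c + a c') (by rw [map_add, map_add, ha, ha]),
          ← Submodule.Quotient.mk_add,
          ← mkK_add A C A₀ h _ _ (hk c _ (ha c)) (hk c' _ (ha c'))
            (by rw [map_add, hk c _ (ha c), hk c' _ (ha c'), add_zero])]
        congr 1
        exact mkK_congr A C A₀ h _ _ _ (by rw [map_add]; ring)
      map_smul' := by
        intro b c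
        simp only [RingHom.id_apply]
        rw [W (b • c) (b * a c) (by rw [Algebra.smul_def, map_mul, map_mul, hφ, ha]),
          ← Submodule.Quotient.mk_smul, ← algebraMap_smul C b
            (mkK A C A₀ h (c - algebraMap A C (a c)) (hk c _ (ha c))),
          ← mkK_smul' A C A₀ h _ _ _ (by rw [map_mul, hk c _ (ha c), mul_zero])]
        congr 1
        exact mkK_congr A C A₀ h _ _ _ (by rw [Algebra.smul_def, map_mul]; ring) }
  have hleib : ∀ c c', Dlin (c * c') = c • Dlin c' + c' • Dlin c := by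
    intro c c'
    show (Submodule.Quotient.mk _ : (ext A C A₀ h).Cotangent ⧸ Isub A C A₀ h) =
      c • Submodule.Quotient.mk _ + c' • Submodule.Quotient.mk _
    rw [W (c * c') (a c * a c') (by rw [map_mul, map_mul, ha, ha]),
      ← Submodule.Quotient.mk_smul, ← Submodule.Quotient.mk_smul, ← Submodule.Quotient.mk_add]
    congr 1
    have h1 : c' • mkK A C A₀ h (c - algebraMap A C (a c)) (hk c _ (ha c)) =
        algebraMap A C (a c') • mkK A C A₀ h (c - algebraMap A C (a c)) (hk c _ (ha c)) := by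
      rw [smul_eq_algebraMap_smul, smul_eq_algebraMap_smul, hφ, ha]
    rw [h1, ← mkK_smul' A C A₀ h _ _ _ (by rw [map_mul, hk c' _ (ha c'), mul_zero]),
      ← mkK_smul' A C A₀ h _ _ _ (by rw [map_mul, hk c _ (ha c), mul_zero]),
      ← mkK_add A C A₀ h _ _ _ _ (by
        rw [map_add, map_mul, map_mul, hk c _ (ha c), hk c' _ (ha c'), mul_zero, mul_zero,
          add_zero])]
    exact mkK_congr A C A₀ h _ _ _ (by rw [map_mul]; ring)
  let Dder : Derivation A C ((ext A C A₀ h).Cotangent ⧸ Isub A C A₀ h) :=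
    Derivation.mk' Dlin hleib
  let β : A₀ ⊗[C] Ω[C⁄A] →ₗ[A₀] ((ext A C A₀ h).Cotangent ⧸ Isub A C A₀ h) :=
    Dder.liftKaehlerDifferential.liftBaseChange A₀
  obtain ⟨k, hk0, rfl⟩ := exists_eq_mkK A C A₀ h m
  have h1 : β ((ext A C A₀ h).cotangentComplex (mkK A C A₀ h k hk0)) =
      Submodule.Quotient.mk (mkK A C A₀ h k hk0) := by
    rw [cotangentComplex_mkK, LinearMap.liftBaseChange_tmul, one_smul,
      Derivation.liftKaehlerDifferential_comp_D]
    show (Submodule.Quotient.mk _ : (ext A C A₀ h).Cotangent ⧸ Isub A C A₀ h) = _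
    rw [W k 0 (by rw [map_zero, hk0])]
    congr 1
    exact (mkK_congr A C A₀ h _ _ _ (by rw [map_zero, sub_zero])).trans rfl
  have h2 : (Submodule.Quotient.mk (mkK A C A₀ h k hk0) :
      (ext A C A₀ h).Cotangent ⧸ Isub A C A₀ h) = 0 := by
    rw [← h1]
    exact (congrArg β hm).trans (map_zero β)
  exact (Submodule.Quotient.mk_eq_zero _).mp h2

/-- If the cotangent complex of `C → A₀` has a section and `I → K/K²` is injective, there is an
`A`-algebra retraction `C → A` compatible with the projections to `A₀`. -/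
theorem exists_retraction_of_section
    (hsurj : Function.Surjective (algebraMap A A₀))
    (hI : ∀ x y : A, algebraMap A A₀ x = 0 → algebraMap A A₀ y = 0 → x * y = 0)
    (h : Function.Surjective (algebraMap C A₀))
    (σ : (ext A C A₀ h).CotangentSpace →ₗ[A₀] (ext A C A₀ h).Cotangent)
    (hσ' : ∀ y, (ext A C A₀ h).cotangentComplex (σ y) = y)
    (hinj : ∀ x : A, algebraMap A A₀ x = 0 →
      algebraMap A C x ∈ (RingHom.ker (algebraMap C A₀)) ^ 2 → x = 0) :
    ∃ ρ : C →ₐ[A] A, ∀ c, algebraMap A A₀ (ρ c) = algebraMap C A₀ c := by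
  classical
  have hφ : ∀ a : A, algebraMap C A₀ (algebraMap A C a) = algebraMap A A₀ a := fun a =>
    (IsScalarTower.algebraMap_apply A C A₀ a).symm
  -- the map `μ`
  let μ : (ext A C A₀ h).Cotangent →ₗ[A₀] (ext A C A₀ h).Cotangent :=
    LinearMap.id - σ ∘ₗ (ext A C A₀ h).cotangentComplex
  have hμ : ∀ m, μ m ∈ Isub A C A₀ h := by
    intro m
    apply mem_Isub_of_cotangentComplex_eq_zero A C A₀ h hsurj
    show (ext A C A₀ h).cotangentComplex (m - σ ((ext A C A₀ h).cotangentComplex m)) = 0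
    rw [map_sub, hσ', sub_self]
  -- uniqueness
  have huniq : ∀ (x x' : A) (hx : algebraMap A A₀ x = 0) (hx' : algebraMap A A₀ x' = 0),
      mkK A C A₀ h (algebraMap A C x) (hφ0 A C A₀ x hx) =
        mkK A C A₀ h (algebraMap A C x') (hφ0 A C A₀ x' hx') → x = x' := by
    intro x x' hx hx' he
    rw [mkK_eq_iff, ← map_sub] at he
    exact sub_eq_zero.mp (hinj _ (by rw [map_sub, hx, hx', sub_self]) he)
  have hex : ∀ (c : C), ∃ x : A, ∀ hc : algebraMap C A₀ c = 0,
      ∃ hx : algebraMap A A₀ x = 0, μ (mkK A C A₀ h c hc) =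
        mkK A C A₀ h (algebraMap A C x) (hφ0 A C A₀ x hx) := by
    intro c
    by_cases hc : algebraMap C A₀ c = 0
    · obtain ⟨x, hx, hxe⟩ := (mem_Isub_iff A C A₀ h hsurj _).mp (hμ (mkK A C A₀ h c hc))
      exact ⟨x, fun _ => ⟨hx, hxe⟩⟩
    · exact ⟨0, fun hc' => absurd hc' hc⟩
  choose θ hθ using hex
  have hchar : ∀ (c : C) (hc : algebraMap C A₀ c = 0) (x : A) (hx : algebraMap A A₀ x = 0),
      μ (mkK A C A₀ h c hc) = mkK A C A₀ h (algebraMap A C x) (hφ0 A C A₀ x hx) → θ c = x := by
    intro c hc x hx he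
    obtain ⟨hx', he'⟩ := hθ c hc
    exact huniq _ _ hx' hx (he'.symm.trans he)
  apply exists_retraction_of_theta A C A₀ hsurj hI θ
  · intro k hk
    exact (hθ k hk).1
  · intro k k' hk hk'
    have hkk' : algebraMap C A₀ (k + k') = 0 := by rw [map_add, hk, hk', add_zero]
    obtain ⟨hx, he⟩ := hθ k hk
    obtain ⟨hx', he'⟩ := hθ k' hk'
    apply hchar _ hkk' _ (by rw [map_add, hx, hx', add_zero])
    rw [mkK_add A C A₀ h k k' hk hk', map_add, he, he',
      ← mkK_add A C A₀ h _ _ _ _ (by
        rw [map_add, hφ0 A C A₀ _ hx, hφ0 A C A₀ _ hx', add_zero])]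
    exact mkK_congr A C A₀ h _ _ _ (map_add _ _ _).symm
  · intro b k hk
    have hbk : algebraMap C A₀ (algebraMap A C b * k) = 0 := by rw [map_mul, hk, mul_zero]
    obtain ⟨hx, he⟩ := hθ k hk
    apply hchar _ hbk _ (by rw [map_mul, hx, mul_zero])
    rw [mkK_smul' A C A₀ h _ k hk, smul_eq_algebraMap_smul, map_smul, he,
      ← smul_eq_algebraMap_smul, ← mkK_smul' A C A₀ h _ _ _ (by
        rw [map_mul, hφ0 A C A₀ _ hx, mul_zero])]
    exact mkK_congr A C A₀ h _ _ _ (map_mul _ _ _).symm
  · intro x hx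
    apply hchar _ (hφ0 A C A₀ x hx) x hx
    show mkK A C A₀ h _ (hφ0 A C A₀ x hx) -
      σ ((ext A C A₀ h).cotangentComplex (mkK A C A₀ h _ (hφ0 A C A₀ x hx))) = _
    have h1 : (ext A C A₀ h).cotangentComplex (mkK A C A₀ h _ (hφ0 A C A₀ x hx)) = 0 := by
      rw [cotangentComplex_mkK, Derivation.map_algebraMap, TensorProduct.tmul_zero]
    rw [h1, map_zero, sub_zero]
  · intro k k' hk hk'
    have hkk' : algebraMap C A₀ (k * k') = 0 := by rw [map_mul, hk, zero_mul]
    apply hchar _ hkk' 0 (map_zero _)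
    have h0 : mkK A C A₀ h (k * k') hkk' = 0 := by
      rw [mkK_smul' A C A₀ h k k' hk', smul_eq_algebraMap_smul, hk, zero_smul]
    rw [h0, map_zero]
    exact (mkK_zero A C A₀ h _ _ (map_zero _)).symm

/-- If `A₀ ⊗[C] Ω[C⁄A]` is projective over `A₀` and `I → K/K²` is injective, there is an
`A`-algebra retraction `C → A` compatible with the projections to `A₀`. -/
theorem exists_retraction
    (hsurj : Function.Surjective (algebraMap A A₀))
    (hI : ∀ x y : A, algebraMap A A₀ x = 0 → algebraMap A A₀ y = 0 → x * y = 0)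
    (hproj : Module.Projective A₀ (A₀ ⊗[C] Ω[C⁄A]))
    (hinj : ∀ x : A, algebraMap A A₀ x = 0 →
      algebraMap A C x ∈ (RingHom.ker (algebraMap C A₀)) ^ 2 → x = 0) :
    ∃ ρ : C →ₐ[A] A, ∀ c, algebraMap A A₀ (ρ c) = algebraMap C A₀ c := by
  have hφ : ∀ a : A, algebraMap C A₀ (algebraMap A C a) = algebraMap A A₀ a := fun a =>
    (IsScalarTower.algebraMap_apply A C A₀ a).symm
  have h : Function.Surjective (algebraMap C A₀) := fun y => by
    obtain ⟨a, rfl⟩ := hsurj y
    exact ⟨algebraMap A C a, hφ a⟩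
  -- the cotangent complex is surjective
  have hκ : Function.Surjective (ext A C A₀ h).cotangentComplex := by
    intro y
    haveI : Subsingleton Ω[A₀⁄A] := KaehlerDifferential.subsingleton_of_surjective A A₀ hsurj
    exact ((ext A C A₀ h).exact_cotangentComplex_toKaehler y).mp (Subsingleton.elim _ _)
  haveI : Module.Projective A₀ (ext A C A₀ h).CotangentSpace := hproj
  obtain ⟨σ, hσ⟩ := Module.projective_lifting_property (ext A C A₀ h).cotangentComplex
    LinearMap.id hκ
  exact exists_retraction_of_section A C A₀ hsurj hI h σ (fun y => LinearMap.congr_fun hσ y) hinj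

end Groth.Agent.Lib.Helper7.SqZero
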