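import Mathlib
import Groth.Agent.Lib.Helper7.SqZero.CotangentSplit

/-!
# Local projectivity of the cotangent space from a chart

If, after a formally étale base change `C → C'`, the extension `C' → A₀'` is the first order
infinitesimal neighbourhood of an extension `R → A₀'` with `Ω[R⁄A]` projective, then the base change
to `A₀'` of `A₀ ⊗[C] Ω[C⁄A]` is projective.
-/

set_option autoImplicit false

namespace Groth.Agent.Lib.Helper7.SqZero

universe u

open TensorProduct KaehlerDifferential Algebra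

theorem nonempty_equiv_baseChange_cotangentSpace_of_chart
    (A C A₀ : Type u) [CommRing A] [CommRing C] [CommRing A₀] [Algebra A C] [Algebra A A₀]
    [Algebra C A₀] [IsScalarTower A C A₀]
    (hC : Function.Surjective (algebraMap C A₀))
    (C' A₀' R : Type u) [CommRing C'] [CommRing A₀'] [CommRing R]
    [Algebra A C'] [Algebra C C'] [IsScalarTower A C C']
    [Algebra A A₀'] [Algebra A₀ A₀'] [IsScalarTower A A₀ A₀']
    [Algebra C' A₀'] [IsScalarTower A C' A₀']
    [Algebra C A₀'] [IsScalarTower C C' A₀'] [IsScalarTower C A₀ A₀']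
    [Algebra.FormallyEtale C C']
    [Algebra A R] [Algebra R A₀'] [IsScalarTower A R A₀']
    (ψ : R →ₐ[A] C') (hψ : Function.Surjective ψ)
    (hψ₀ : ∀ r, algebraMap C' A₀' (ψ r) = algebraMap R A₀' r)
    (hR₀ : Function.Surjective (algebraMap R A₀'))
    (hker : RingHom.ker ψ.toRingHom = (RingHom.ker (algebraMap R A₀')) ^ 2) :
    Nonempty ((A₀' ⊗[R] Ω[R⁄A]) ≃ₗ[A₀'] (A₀' ⊗[A₀] (A₀ ⊗[C] Ω[C⁄A]))) := by
  have hC' : Function.Surjective (algebraMap C' A₀') := fun y => by
    obtain ⟨r, rfl⟩ := hR₀ y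
    exact ⟨ψ r, hψ₀ r⟩
  -- the three extensions
  let f : (ext A C A₀ hC).Hom (ext A C' A₀' hC') :=
    { toRingHom := algebraMap C C'
      toRingHom_algebraMap := fun x => (IsScalarTower.algebraMap_apply A C C' x).symm
      algebraMap_toRingHom := fun x => by
        show algebraMap C' A₀' (algebraMap C C' x) = algebraMap A₀ A₀' (algebraMap C A₀ x)
        rw [← IsScalarTower.algebraMap_apply, ← IsScalarTower.algebraMap_apply] }
  have hf : f.toRingHom.FormallyEtale :=
    RingHom.formallyEtale_algebraMap.mpr inferInstance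
  let e₁ := Extension.tensorCotangentSpaceOfFormallyEtale f hf
  -- the infinitesimal extension of `R → A₀'`
  have hkerle : ∀ r : R, r ∈ (ext A R A₀' hR₀).ker ^ 2 → ψ.toRingHom r = 0 := fun r hr => by
    rw [← RingHom.mem_ker, hker]; exact hr
  let ψbar : (ext A R A₀' hR₀).infinitesimal.Ring →+* C' :=
    Ideal.Quotient.lift _ ψ.toRingHom hkerle
  have hψbar : ∀ r : R, ψbar (Ideal.Quotient.mk _ r) = ψ r := fun r => rfl
  let ψinv : C' →+* (ext A R A₀' hR₀).infinitesimal.Ring :=
    RingHom.liftOfSurjective ψ.toRingHom hψ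
      ⟨Ideal.Quotient.mk ((ext A R A₀' hR₀).ker ^ 2), fun r hr => by
        rw [hker] at hr
        exact RingHom.mem_ker.mpr (Ideal.Quotient.eq_zero_iff_mem.mpr hr)⟩
  have hψinv : ∀ r : R, ψinv (ψ r) = Ideal.Quotient.mk _ r := fun r =>
    RingHom.liftOfSurjective_comp_apply ψ.toRingHom hψ _ r
  let u : (ext A R A₀' hR₀).infinitesimal.Hom (ext A C' A₀' hC') :=
    { toRingHom := ψbar
      toRingHom_algebraMap := fun x => by
        show ψbar (Ideal.Quotient.mk _ (algebraMap A R x)) = algebraMap A C' x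
        rw [hψbar]; exact ψ.commutes x
      algebraMap_toRingHom := fun y => by
        obtain ⟨r, rfl⟩ := Ideal.Quotient.mk_surjective y
        show algebraMap C' A₀' (ψ r) = algebraMap R A₀' r
        exact hψ₀ r }
  let v : (ext A C' A₀' hC').Hom (ext A R A₀' hR₀).infinitesimal :=
    { toRingHom := ψinv
      toRingHom_algebraMap := fun x => by
        show ψinv (algebraMap A C' x) = Ideal.Quotient.mk _ (algebraMap A R x)
        rw [← ψ.commutes x, hψinv]
      algebraMap_toRingHom := fun c' => by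
        obtain ⟨r, rfl⟩ := hψ c'
        show algebraMap _ A₀' (ψinv (ψ r)) = algebraMap C' A₀' (ψ r)
        rw [hψinv, hψ₀]
        rfl }
  have huv : u.comp v = Extension.Hom.id _ := by
    ext c'
    obtain ⟨r, rfl⟩ := hψ c'
    show ψbar (ψinv (ψ r)) = ψ r
    rw [hψinv, hψbar]
  have hvu : v.comp u = Extension.Hom.id _ := by
    ext y
    obtain ⟨r, rfl⟩ := Ideal.Quotient.mk_surjective y
    show ψinv (ψbar (Ideal.Quotient.mk _ r)) = Ideal.Quotient.mk _ r
    rw [hψbar, hψinv]
  have h1 : ∀ x, Extension.CotangentSpace.map u (Extension.CotangentSpace.map v x) = x := by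
    intro x
    rw [← Extension.CotangentSpace.map_comp_apply, huv, Extension.CotangentSpace.map_id]
    rfl
  have h2 : ∀ x, Extension.CotangentSpace.map v (Extension.CotangentSpace.map u x) = x := by
    intro x
    rw [← Extension.CotangentSpace.map_comp_apply, hvu, Extension.CotangentSpace.map_id]
    rfl
  let e₃ : (ext A R A₀' hR₀).infinitesimal.CotangentSpace ≃ₗ[A₀']
      (ext A C' A₀' hC').CotangentSpace :=
    { Extension.CotangentSpace.map u with
      invFun := Extension.CotangentSpace.map v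
      left_inv := h2
      right_inv := h1 }
  let e₂ : (ext A R A₀' hR₀).CotangentSpace ≃ₗ[A₀']
      (ext A R A₀' hR₀).infinitesimal.CotangentSpace :=
    LinearEquiv.ofBijective _
      (Extension.CotangentSpace.map_toInfinitesimal_bijective (ext A R A₀' hR₀))
  exact ⟨(e₂.trans e₃).trans e₁.symm⟩

theorem projective_baseChange_cotangentSpace_of_chart
    (A C A₀ : Type u) [CommRing A] [CommRing C] [CommRing A₀] [Algebra A C] [Algebra A A₀]
    [Algebra C A₀] [IsScalarTower A C A₀]
    (hC : Function.Surjective (algebraMap C A₀))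
    (C' A₀' R : Type u) [CommRing C'] [CommRing A₀'] [CommRing R]
    [Algebra A C'] [Algebra C C'] [IsScalarTower A C C']
    [Algebra A A₀'] [Algebra A₀ A₀'] [IsScalarTower A A₀ A₀']
    [Algebra C' A₀'] [IsScalarTower A C' A₀']
    [Algebra C A₀'] [IsScalarTower C C' A₀'] [IsScalarTower C A₀ A₀']
    [Algebra.FormallyEtale C C']
    [Algebra A R] [Algebra R A₀'] [IsScalarTower A R A₀']
    [Module.Projective R Ω[R⁄A]]
    (ψ : R →ₐ[A] C') (hψ : Function.Surjective ψ)
    (hψ₀ : ∀ r, algebraMap C' A₀' (ψ r) = algebraMap R A₀' r)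
    (hR₀ : Function.Surjective (algebraMap R A₀'))
    (hker : RingHom.ker ψ.toRingHom = (RingHom.ker (algebraMap R A₀')) ^ 2) :
    Module.Projective A₀' (A₀' ⊗[A₀] (A₀ ⊗[C] Ω[C⁄A])) := by
  obtain ⟨e⟩ := nonempty_equiv_baseChange_cotangentSpace_of_chart A C A₀ hC C' A₀' R ψ hψ hψ₀ hR₀
    hker
  exact Module.Projective.of_equiv' e

theorem finitePresentation_baseChange_cotangentSpace_of_chart
    (A C A₀ : Type u) [CommRing A] [CommRing C] [CommRing A₀] [Algebra A C] [Algebra A A₀]
    [Algebra C A₀] [IsScalarTower A C A₀]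
    (hC : Function.Surjective (algebraMap C A₀))
    (C' A₀' R : Type u) [CommRing C'] [CommRing A₀'] [CommRing R]
    [Algebra A C'] [Algebra C C'] [IsScalarTower A C C']
    [Algebra A A₀'] [Algebra A₀ A₀'] [IsScalarTower A A₀ A₀']
    [Algebra C' A₀'] [IsScalarTower A C' A₀']
    [Algebra C A₀'] [IsScalarTower C C' A₀'] [IsScalarTower C A₀ A₀']
    [Algebra.FormallyEtale C C']
    [Algebra A R] [Algebra R A₀'] [IsScalarTower A R A₀']
    [Algebra.FinitePresentation A R]
    (ψ : R →ₐ[A] C') (hψ : Function.Surjective ψ)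
    (hψ₀ : ∀ r, algebraMap C' A₀' (ψ r) = algebraMap R A₀' r)
    (hR₀ : Function.Surjective (algebraMap R A₀'))
    (hker : RingHom.ker ψ.toRingHom = (RingHom.ker (algebraMap R A₀')) ^ 2) :
    Module.FinitePresentation A₀' (A₀' ⊗[A₀] (A₀ ⊗[C] Ω[C⁄A])) := by
  obtain ⟨e⟩ := nonempty_equiv_baseChange_cotangentSpace_of_chart A C A₀ hC C' A₀' R ψ hψ hψ₀ hR₀
    hker
  exact Module.FinitePresentation.of_equiv e

end Groth.Agent.Lib.Helper7.SqZero
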