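import Mathlib
import Groth.Agent.Lib.Helper31.ProjDescent

/-!
# Projectivity is Zariski-local (via Raynaud–Gruson descent)

* `projective_pi`: a finite product of projective modules is projective over the product ring.
* `projective_pi_tensor`: `(Π i, S i) ⊗[R] N` is projective over `Π i, S i` if every `S i ⊗[R] N` is
  projective over `S i`.
* `faithfullyFlat_pi_away`: `Π i, R[1/g i]` is faithfully flat over `R` if the `g i` span `⊤`.
* `projective_of_span_away`: a module whose base changes to `R[1/g i]` are projective, with the
  `g i` (finitely many) spanning the unit ideal, is projective.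
-/

set_option autoImplicit false

namespace Groth.Agent.Lib.Helper7.PiProjective

universe u

open TensorProduct

section PiProj

variable {ι : Type u} [Finite ι] (S : ι → Type u) [∀ i, CommRing (S i)]
  (M : ι → Type u) [∀ i, AddCommGroup (M i)] [∀ i, Module (S i) (M i)]

theorem projective_pi [∀ i, Module.Projective (S i) (M i)] :
    Module.Projective (Π i, S i) (Π i, M i) := by
  classical
  cases nonempty_fintype ι
  have hs : ∀ i, ∃ s : M i →ₗ[S i] (M i →₀ S i),
      Finsupp.linearCombination (S i) id ∘ₗ s = LinearMap.id :=
    fun i => Module.projective_def'.mp inferInstance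
  choose s hs using hs
  let G : (Π i, M i) →ₗ[Π i, S i] (Π i, (M i →₀ (Π j, S j))) :=
    { toFun := fun y i => Finsupp.mapRange (Pi.single i) (Pi.single_zero i) (s i (y i))
      map_add' := by
        intro x y
        funext i
        ext k j
        simp only [Pi.add_apply, map_add, Finsupp.mapRange_apply, Finsupp.coe_add]
        by_cases hj : j = i
        · subst hj; simp
        · simp [Pi.single_eq_of_ne hj]
      map_smul' := by
        intro a x
        funext i
        ext k j
        simp only [Pi.smul_apply, map_smul, Finsupp.mapRange_apply, Finsupp.coe_smul,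
          RingHom.id_apply, smul_eq_mul, Pi.mul_apply]
        by_cases hj : j = i
        · subst hj; simp
        · simp [Pi.single_eq_of_ne hj] }
  let F : (Π i, (M i →₀ (Π j, S j))) →ₗ[Π i, S i] (Π i, M i) :=
    { toFun := fun w i => Finsupp.linearCombination (S i) id
        (Finsupp.mapRange (fun p : Π j, S j => p i) rfl (w i))
      map_add' := by
        intro x y
        funext i
        simp only [Pi.add_apply]
        rw [← map_add]
        congr 1
        ext k
        simp
      map_smul' := by
        intro a x
        funext i
        show Finsupp.linearCombination (S i) id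
            (Finsupp.mapRange (fun p : Π j, S j => p i) rfl ((a • x) i)) =
          a i • Finsupp.linearCombination (S i) id
            (Finsupp.mapRange (fun p : Π j, S j => p i) rfl (x i))
        rw [← map_smul]
        congr 1
        ext k
        simp }
  have hFG : F ∘ₗ G = LinearMap.id := by
    ext y i
    simp only [LinearMap.comp_apply, LinearMap.id_apply]
    show Finsupp.linearCombination (S i) id
      (Finsupp.mapRange (fun p : Π j, S j => p i) rfl
        (Finsupp.mapRange (Pi.single i) (Pi.single_zero i) (s i (y i)))) = y i
    have h1 : Finsupp.mapRange (fun p : Π j, S j => p i) rfl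
        (Finsupp.mapRange (Pi.single i) (Pi.single_zero i) (s i (y i))) = s i (y i) := by
      ext k
      simp
    rw [h1]
    exact LinearMap.congr_fun (hs i) (y i)
  exact Module.Projective.of_split G F hFG

end PiProj

section PiTensor

variable {ι : Type u} [Finite ι] (R : Type u) [CommRing R] (S : ι → Type u) [∀ i, CommRing (S i)]
  [∀ i, Algebra R (S i)] (N : Type u) [AddCommGroup N] [Module R N]

theorem projective_pi_tensor (h : ∀ i, Module.Projective (S i) (S i ⊗[R] N)) :
    Module.Projective (Π i, S i) ((Π i, S i) ⊗[R] N) := by
  classical
  cases nonempty_fintype ι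
  have hsmul : ∀ (p : Π i, S i) (x : (Π i, S i) ⊗[R] N),
      (TensorProduct.piLeft R N S) (p • x) = p • (TensorProduct.piLeft R N S) x := by
    intro p x
    induction x using TensorProduct.induction_on with
    | zero => simp
    | tmul q n =>
      funext i
      simp [TensorProduct.smul_tmul']
    | add a b ha hb => rw [smul_add, map_add, ha, hb, map_add, smul_add]
  let e : ((Π i, S i) ⊗[R] N) ≃ₗ[Π i, S i] (Π i, S i ⊗[R] N) :=
    { (TensorProduct.piLeft R N S) with map_smul' := hsmul }
  haveI := projective_pi S (fun i => S i ⊗[R] N)
  exact Module.Projective.of_equiv' e.symm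

end PiTensor

section FF

variable (R : Type u) [CommRing R] {ι : Type u} [Finite ι] (g : ι → R)
  (S : ι → Type u) [∀ i, CommRing (S i)] [∀ i, Algebra R (S i)]
  [∀ i, IsLocalization.Away (g i) (S i)]

include g in
theorem faithfullyFlat_pi_away (hg : Ideal.span (Set.range g) = ⊤) :
    Module.FaithfullyFlat R (Π i, S i) := by
  classical
  cases nonempty_fintype ι
  haveI : ∀ i, Module.Flat R (S i) := fun i => IsLocalization.flat (S i) (Submonoid.powers (g i))
  haveI : Module.Flat R (Π i, S i) :=
    Module.Flat.of_linearEquiv (DFinsupp.linearEquivFunOnFintype (R := R) (M := S)).symm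
  refine ⟨fun m hm htop => ?_⟩
  -- some `g j ∉ m`
  obtain ⟨j, hj⟩ : ∃ j, g j ∉ m := by
    by_contra hcon
    push_neg at hcon
    have : Ideal.span (Set.range g) ≤ m := Ideal.span_le.mpr (by rintro _ ⟨j, rfl⟩; exact hcon j)
    rw [hg] at this
    exact hm.ne_top (top_le_iff.mp this)
  have h1 : (1 : S j) ∈ (m • ⊤ : Submodule R (S j)) := by
    have h2 : (1 : Π i, S i) ∈ (m • ⊤ : Submodule R (Π i, S i)) := by
      rw [htop]; exact Submodule.mem_top
    have h3 := Submodule.mem_map_of_mem (f := (LinearMap.proj j : (Π i, S i) →ₗ[R] S j)) h2
    rw [Submodule.map_smul''] at h3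
    exact Submodule.smul_mono le_rfl le_top h3
  rw [Ideal.smul_top_eq_map] at h1
  have h4 : m.map (algebraMap R (S j)) = ⊤ := (Ideal.eq_top_iff_one _).mpr h1
  haveI := hm.isPrime
  have h5 := (IsLocalization.map_algebraMap_ne_top_iff_disjoint (Submonoid.powers (g j)) (S j) m).mpr
    (by
      rw [Set.disjoint_left]
      rintro x ⟨n, rfl⟩ hx
      exact hj (Ideal.IsPrime.mem_of_pow_mem inferInstance n hx))
  exact h5 h4

end FF

section Local

variable (R : Type u) [CommRing R] {ι : Type u} [Finite ι] (g : ι → R)
  (S : ι → Type u) [∀ i, CommRing (S i)] [∀ i, Algebra R (S i)]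
  [∀ i, IsLocalization.Away (g i) (S i)] (N : Type u) [AddCommGroup N] [Module R N]

include g in
/-- Projectivity can be checked on a finite cover by basic opens (uses descent of projectivity
along faithfully flat maps, for arbitrary modules). -/
theorem projective_of_span_away (hg : Ideal.span (Set.range g) = ⊤)
    (h : ∀ i, Module.Projective (S i) (S i ⊗[R] N)) : Module.Projective R N := by
  haveI := faithfullyFlat_pi_away R g S hg
  haveI := projective_pi_tensor R S N h
  exact Groth.Agent.Lib.Helper31.ProjDescent.projective_of_faithfullyFlat_baseChange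
    (S := Π i, S i) N

end Local

end Groth.Agent.Lib.Helper7.PiProjective
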