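import Mathlib
import Groth.Agent.Lib.Helper7.SqZero.Chart
import Groth.Agent.Lib.Helper7.SqZero.PiProjective

/-!
# Gluing local retractions

* `exists_local_lift_of_chart`: a formally smooth chart gives a local retraction.
* `exists_retraction_of_local`: local retractions and local projectivity of the cotangent space (on a
  finite cover by basic opens) give a global retraction.
-/

set_option autoImplicit false

namespace Groth.Agent.Lib.Helper7.SqZero

universe u

open TensorProduct KaehlerDifferential Algebra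

theorem exists_local_lift_of_chart
    (A C : Type u) [CommRing A] [CommRing C] [Algebra A C]
    (Aloc A₀loc C' R : Type u) [CommRing Aloc] [CommRing A₀loc] [CommRing C'] [CommRing R]
    [Algebra A Aloc] [Algebra A C'] [Algebra C C'] [IsScalarTower A C C']
    [Algebra A R] [Algebra.FormallySmooth A R]
    (π : Aloc →+* A₀loc) (hπsurj : Function.Surjective π)
    (hπsq : ∀ u v, π u = 0 → π v = 0 → u * v = 0)
    (χ : C' →+* A₀loc)
    (ψ : R →ₐ[A] C') (hψ : Function.Surjective ψ)
    (hker : ∀ r, ψ r = 0 → r ∈ (RingHom.ker (χ.comp ψ.toRingHom)) ^ 2)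
    (hχA : ∀ a, χ (algebraMap A C' a) = π (algebraMap A Aloc a)) :
    ∃ ρ : C →+* Aloc, (∀ a, ρ (algebraMap A C a) = algebraMap A Aloc a) ∧
      ∀ c, π (ρ c) = χ (algebraMap C C' c) := by
  letI : Algebra A A₀loc := (π.comp (algebraMap A Aloc)).toAlgebra
  let πalg : Aloc →ₐ[A] A₀loc := { π with commutes' := fun a => rfl }
  let f : R →ₐ[A] A₀loc :=
    { χ.comp ψ.toRingHom with
      commutes' := fun a => by
        show χ (ψ (algebraMap A R a)) = π (algebraMap A Aloc a)
        rw [ψ.commutes, hχA] }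
  have hnil : IsNilpotent (RingHom.ker (πalg : Aloc →+* A₀loc)) := by
    refine ⟨2, ?_⟩
    rw [Ideal.zero_eq_bot, eq_bot_iff, pow_two, Ideal.mul_le]
    intro u hu v hv
    exact (Ideal.mem_bot).mpr (hπsq u v (RingHom.mem_ker.mp hu) (RingHom.mem_ker.mp hv))
  let lam : R →ₐ[A] Aloc := Algebra.FormallySmooth.liftOfSurjective f πalg hπsurj hnil
  have hlam : ∀ r, π (lam r) = χ (ψ r) := fun r =>
    Algebra.FormallySmooth.liftOfSurjective_apply f πalg hπsurj hnil r
  have hlam2 : ∀ r ∈ (RingHom.ker (χ.comp ψ.toRingHom)) ^ 2, lam r = 0 := by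
    intro r hr
    rw [pow_two] at hr
    refine Submodule.mul_induction_on hr ?_ ?_
    · intro m hm n hn
      rw [map_mul]
      apply hπsq
      · rw [hlam]; exact RingHom.mem_ker.mp hm
      · rw [hlam]; exact RingHom.mem_ker.mp hn
    · intro x y hx hy
      rw [map_add, hx, hy, add_zero]
  let ρ' : C' →+* Aloc := RingHom.liftOfSurjective ψ.toRingHom hψ
    ⟨lam.toRingHom, fun r hr => RingHom.mem_ker.mpr (hlam2 r (hker r (RingHom.mem_ker.mp hr)))⟩
  have hρ' : ∀ r, ρ' (ψ r) = lam r := fun r =>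
    RingHom.liftOfSurjective_comp_apply ψ.toRingHom hψ _ r
  refine ⟨ρ'.comp (algebraMap C C'), ?_, ?_⟩
  · intro a
    show ρ' (algebraMap C C' (algebraMap A C a)) = _
    rw [← IsScalarTower.algebraMap_apply, ← ψ.commutes, hρ', lam.commutes]
  · intro c
    show π (ρ' (algebraMap C C' c)) = _
    obtain ⟨r, hr⟩ := hψ (algebraMap C C' c)
    rw [← hr, hρ', hlam]

variable (A C A₀ : Type u) [CommRing A] [CommRing C] [CommRing A₀] [Algebra A C] [Algebra A A₀]
  [Algebra C A₀] [IsScalarTower A C A₀]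

theorem exists_retraction_of_local
    (hsurj : Function.Surjective (algebraMap A A₀))
    (hI : ∀ x y : A, algebraMap A A₀ x = 0 → algebraMap A A₀ y = 0 → x * y = 0)
    {ι : Type u} [Finite ι] (g : ι → A) (hg : Ideal.span (Set.range g) = ⊤)
    (Aloc : ι → Type u) [∀ j, CommRing (Aloc j)] [∀ j, Algebra A (Aloc j)]
    [∀ j, IsLocalization.Away (g j) (Aloc j)]
    (A₀loc : ι → Type u) [∀ j, CommRing (A₀loc j)] [∀ j, Algebra A₀ (A₀loc j)]
    [∀ j, IsLocalization.Away (algebraMap A A₀ (g j)) (A₀loc j)]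
    (π : ∀ j, Aloc j →+* A₀loc j)
    (hπ : ∀ j a, π j (algebraMap A (Aloc j) a) = algebraMap A₀ (A₀loc j) (algebraMap A A₀ a))
    (hlift : ∀ j, ∃ ρ : C →+* Aloc j, (∀ a, ρ (algebraMap A C a) = algebraMap A (Aloc j) a) ∧
      ∀ k, algebraMap C A₀ k = 0 → π j (ρ k) = 0)
    (hproj : ∀ j, Module.Projective (A₀loc j) (A₀loc j ⊗[A₀] (A₀ ⊗[C] Ω[C⁄A]))) :
    ∃ ρ : C →ₐ[A] A, ∀ c, algebraMap A A₀ (ρ c) = algebraMap C A₀ c := by
  classical
  -- projectivity
  have hspan : Ideal.span (Set.range fun j => algebraMap A A₀ (g j)) = ⊤ := by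
    have h1 := congrArg (Ideal.map (algebraMap A A₀)) hg
    rw [Ideal.map_span, Ideal.map_top, ← Set.range_comp] at h1
    exact h1
  have hprojQ : Module.Projective A₀ (A₀ ⊗[C] Ω[C⁄A]) :=
    PiProjective.projective_of_span_away A₀ (fun j => algebraMap A A₀ (g j)) A₀loc _ hspan hproj
  -- square zero kernels
  have hsq : ∀ j (u v : Aloc j), π j u = 0 → π j v = 0 → u * v = 0 := by
    intro j u v hu hv
    obtain ⟨n, a, ha⟩ := IsLocalization.Away.surj (g j) u
    obtain ⟨n', b, hb⟩ := IsLocalization.Away.surj (g j) v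
    have ha0 : algebraMap A₀ (A₀loc j) (algebraMap A A₀ a) = 0 := by
      rw [← hπ, ← ha, map_mul, hu, zero_mul]
    have hb0 : algebraMap A₀ (A₀loc j) (algebraMap A A₀ b) = 0 := by
      rw [← hπ, ← hb, map_mul, hv, zero_mul]
    obtain ⟨m, hm⟩ := IsLocalization.Away.exists_of_eq (algebraMap A A₀ (g j))
      (ha0.trans (map_zero (algebraMap A₀ (A₀loc j))).symm)
    obtain ⟨m', hm'⟩ := IsLocalization.Away.exists_of_eq (algebraMap A A₀ (g j))
      (hb0.trans (map_zero (algebraMap A₀ (A₀loc j))).symm)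
    rw [mul_zero, ← map_pow, ← map_mul] at hm hm'
    have h1 := hI _ _ hm hm'
    have h2 : algebraMap A (Aloc j) (g j ^ m * a * (g j ^ m' * b)) = 0 := by rw [h1, map_zero]
    have hunit : IsUnit (algebraMap A (Aloc j) (g j)) := IsLocalization.Away.algebraMap_isUnit _
    have h3 : u * v * (algebraMap A (Aloc j) (g j) ^ (n + n' + m + m')) = 0 := by
      have : u * v * (algebraMap A (Aloc j) (g j) ^ (n + n' + m + m')) =
          algebraMap A (Aloc j) (g j ^ m * a * (g j ^ m' * b)) := by
        rw [map_mul, map_mul, map_mul, map_pow, map_pow, ← ha, ← hb]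
        ring
      rw [this, h2]
    exact (hunit.pow _).mul_left_eq_zero.mp h3
  -- injectivity
  have hinj : ∀ x : A, algebraMap A A₀ x = 0 →
      algebraMap A C x ∈ (RingHom.ker (algebraMap C A₀)) ^ 2 → x = 0 := by
    intro x hx hxK
    -- the annihilator of `x`
    let J : Ideal A := Ideal.span {x} |>.annihilator
    have hJ : ∀ j, ∃ n, g j ^ n ∈ J := by
      intro j
      obtain ⟨ρ, hρ1, hρ2⟩ := hlift j
      have h1 : ∀ y ∈ (RingHom.ker (algebraMap C A₀)) ^ 2, ρ y = 0 := by
        intro y hy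
        rw [pow_two] at hy
        refine Submodule.mul_induction_on hy ?_ ?_
        · intro k hk k' hk'
          rw [map_mul]
          exact hsq j _ _ (hρ2 k (RingHom.mem_ker.mp hk)) (hρ2 k' (RingHom.mem_ker.mp hk'))
        · intro y y' hy hy'
          rw [map_add, hy, hy', add_zero]
      have h2 : algebraMap A (Aloc j) x = 0 := by rw [← hρ1, h1 _ hxK]
      obtain ⟨n, hn⟩ := IsLocalization.Away.exists_of_eq (g j)
        (h2.trans (map_zero (algebraMap A (Aloc j))).symm)
      refine ⟨n, ?_⟩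
      rw [mul_zero] at hn
      show g j ^ n ∈ (Ideal.span {x}).annihilator
      rw [Submodule.mem_annihilator_span_singleton]
      exact hn
    have hJtop : J = ⊤ := by
      by_contra hne
      obtain ⟨m, hm, hJm⟩ := Ideal.exists_le_maximal J hne
      have : Ideal.span (Set.range g) ≤ m := by
        rw [Ideal.span_le]
        rintro _ ⟨j, rfl⟩
        obtain ⟨n, hn⟩ := hJ j
        exact hm.isPrime.mem_of_pow_mem n (hJm hn)
      rw [hg] at this
      exact hm.ne_top (top_le_iff.mp this)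
    have h1 : (1 : A) ∈ J := hJtop ▸ Submodule.mem_top
    have h2 := (Submodule.mem_annihilator_span_singleton x 1).mp h1
    rwa [one_smul] at h2
  exact exists_retraction A C A₀ hsurj hI hprojQ hinj

end Groth.Agent.Lib.Helper7.SqZero
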