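import Mathlib
import Groth.Agent.Lib.Helper7.SqZero.LocalGlobal

/-!
# Square-zero retractions from formally smooth charts: instance-free wrapper

`exists_retraction_of_charts` packages the ring-level theory of this folder in a form that only
mentions ring homomorphisms, so that it can be applied to rings of sections of schemes without
any instance juggling.
-/

set_option autoImplicit false

namespace Groth.Agent.Lib.Helper7.SqZero

universe u

open TensorProduct KaehlerDifferential Algebra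

/-- A map between localizations away from `g` and `f g` compatible with a surjection `f` is
surjective. -/
theorem surjective_of_away {A A₀ Aloc A₀loc : Type u} [CommRing A] [CommRing A₀] [CommRing Aloc]
    [CommRing A₀loc] (f : A →+* A₀) (hf : Function.Surjective f) (g : A)
    [Algebra A Aloc] [IsLocalization.Away g Aloc] [Algebra A₀ A₀loc]
    [IsLocalization.Away (f g) A₀loc] (π : Aloc →+* A₀loc)
    (hπ : ∀ a, π (algebraMap A Aloc a) = algebraMap A₀ A₀loc (f a)) :
    Function.Surjective π := by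
  intro y
  obtain ⟨n, a₀, ha₀⟩ := IsLocalization.Away.surj (f g) y
  obtain ⟨a, rfl⟩ := hf a₀
  have hunit : IsUnit (algebraMap A Aloc g ^ n) :=
    (IsLocalization.Away.algebraMap_isUnit (S := Aloc) g).pow n
  obtain ⟨u, hu⟩ := hunit
  refine ⟨algebraMap A Aloc a * ((u⁻¹ : (Aloc)ˣ) : Aloc), ?_⟩
  rw [map_mul, hπ, ← ha₀, ← hπ, ← map_pow, mul_assoc, ← map_mul, ← hu, Units.mul_inv, map_one,
    mul_one]

/-- The kernel of a localized square-zero surjection is square-zero. -/
theorem sq_zero_of_away {A A₀ Aloc A₀loc : Type u} [CommRing A] [CommRing A₀] [CommRing Aloc]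
    [CommRing A₀loc] (f : A →+* A₀)
    (hI : ∀ x y : A, f x = 0 → f y = 0 → x * y = 0) (g : A)
    [Algebra A Aloc] [IsLocalization.Away g Aloc] [Algebra A₀ A₀loc]
    [IsLocalization.Away (f g) A₀loc] (π : Aloc →+* A₀loc)
    (hπ : ∀ a, π (algebraMap A Aloc a) = algebraMap A₀ A₀loc (f a)) :
    ∀ u v : Aloc, π u = 0 → π v = 0 → u * v = 0 := by
  intro u v hu hv
  obtain ⟨n, a, ha⟩ := IsLocalization.Away.surj g u
  obtain ⟨n', b, hb⟩ := IsLocalization.Away.surj g v
  have ha0 : algebraMap A₀ A₀loc (f a) = 0 := by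
    rw [← hπ, ← ha, map_mul, hu, zero_mul]
  have hb0 : algebraMap A₀ A₀loc (f b) = 0 := by
    rw [← hπ, ← hb, map_mul, hv, zero_mul]
  obtain ⟨m, hm⟩ := IsLocalization.Away.exists_of_eq (f g)
    (ha0.trans (map_zero (algebraMap A₀ A₀loc)).symm)
  obtain ⟨m', hm'⟩ := IsLocalization.Away.exists_of_eq (f g)
    (hb0.trans (map_zero (algebraMap A₀ A₀loc)).symm)
  rw [mul_zero, ← map_pow, ← map_mul] at hm hm'
  have h1 := hI _ _ hm hm'
  have h2 : algebraMap A Aloc (g ^ m * a * (g ^ m' * b)) = 0 := by rw [h1, map_zero]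
  have hunit : IsUnit (algebraMap A Aloc g) := IsLocalization.Away.algebraMap_isUnit _
  have h3 : u * v * (algebraMap A Aloc g ^ (n + n' + m + m')) = 0 := by
    have : u * v * (algebraMap A Aloc g ^ (n + n' + m + m')) =
        algebraMap A Aloc (g ^ m * a * (g ^ m' * b)) := by
      rw [map_mul, map_mul, map_mul, map_pow, map_pow, ← ha, ← hb]
      ring
    rw [this, h2]
  exact (hunit.pow _).mul_left_eq_zero.mp h3

section Chart

variable (A C A₀ : Type u) [CommRing A] [CommRing C] [CommRing A₀] [Algebra A C] [Algebra A A₀]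
  [Algebra C A₀] [IsScalarTower A C A₀]

/-- One formally smooth chart gives a local lift and local projectivity. -/
theorem chart_lift_and_projective
    (hsurj : Function.Surjective (algebraMap A A₀))
    (hI : ∀ x y : A, algebraMap A A₀ x = 0 → algebraMap A A₀ y = 0 → x * y = 0)
    (g : A)
    (Aloc A₀loc C' R : Type u) [CommRing Aloc] [CommRing A₀loc] [CommRing C'] [CommRing R]
    [Algebra A Aloc] [IsLocalization.Away g Aloc]
    [Algebra A₀ A₀loc] [IsLocalization.Away (algebraMap A A₀ g) A₀loc]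
    [Algebra C C'] [IsLocalization.Away (algebraMap A C g) C']
    (π : Aloc →+* A₀loc)
    (hπ : ∀ a, π (algebraMap A Aloc a) = algebraMap A₀ A₀loc (algebraMap A A₀ a))
    (χ : C' →+* A₀loc)
    (hχ : ∀ c, χ (algebraMap C C' c) = algebraMap A₀ A₀loc (algebraMap C A₀ c))
    (r : A →+* R) (hr : r.FormallySmooth)
    (ψ : R →+* C') (hψ : Function.Surjective ψ)
    (hψr : ∀ a, ψ (r a) = algebraMap C C' (algebraMap A C a))
    (hker : RingHom.ker ψ = (RingHom.ker (χ.comp ψ)) ^ 2) :
    (∃ ρ : C →+* Aloc, (∀ a, ρ (algebraMap A C a) = algebraMap A Aloc a) ∧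
      ∀ k, algebraMap C A₀ k = 0 → π (ρ k) = 0) ∧
    Module.Projective A₀loc (A₀loc ⊗[A₀] (A₀ ⊗[C] Ω[C⁄A])) := by
  have hπsurj : Function.Surjective π :=
    surjective_of_away (algebraMap A A₀) hsurj g π hπ
  have hπsq := sq_zero_of_away (algebraMap A A₀) hI g π hπ
  have hC : Function.Surjective (algebraMap C A₀) := by
    intro y
    obtain ⟨a, rfl⟩ := hsurj y
    exact ⟨algebraMap A C a, (IsScalarTower.algebraMap_apply A C A₀ a).symm⟩
  haveI : IsLocalization.Away (algebraMap C A₀ (algebraMap A C g)) A₀loc := by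
    rw [← IsScalarTower.algebraMap_apply A C A₀]; infer_instance
  have hχsurj : Function.Surjective χ :=
    surjective_of_away (algebraMap C A₀) hC (algebraMap A C g) χ hχ
  letI : Algebra A R := r.toAlgebra
  haveI : Algebra.FormallySmooth A R := hr
  letI : Algebra A C' := ((algebraMap C C').comp (algebraMap A C)).toAlgebra
  haveI : IsScalarTower A C C' := IsScalarTower.of_algebraMap_eq' rfl
  letI : Algebra A A₀loc := ((algebraMap A₀ A₀loc).comp (algebraMap A A₀)).toAlgebra
  haveI : IsScalarTower A A₀ A₀loc := IsScalarTower.of_algebraMap_eq' rfl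
  letI : Algebra C' A₀loc := χ.toAlgebra
  haveI : IsScalarTower A C' A₀loc := IsScalarTower.of_algebraMap_eq' (by
    ext a
    show algebraMap A₀ A₀loc (algebraMap A A₀ a) = χ (algebraMap C C' (algebraMap A C a))
    rw [hχ, ← IsScalarTower.algebraMap_apply A C A₀])
  letI : Algebra C A₀loc := ((algebraMap A₀ A₀loc).comp (algebraMap C A₀)).toAlgebra
  haveI : IsScalarTower C A₀ A₀loc := IsScalarTower.of_algebraMap_eq' rfl
  haveI : IsScalarTower C C' A₀loc := IsScalarTower.of_algebraMap_eq' (by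
    ext c
    exact (hχ c).symm)
  haveI : Algebra.FormallyEtale C C' :=
    Algebra.FormallyEtale.of_isLocalization (Submonoid.powers (algebraMap A C g))
  letI : Algebra R A₀loc := (χ.comp ψ).toAlgebra
  haveI : IsScalarTower A R A₀loc := IsScalarTower.of_algebraMap_eq' (by
    ext a
    show algebraMap A₀ A₀loc (algebraMap A A₀ a) = χ (ψ (r a))
    rw [hψr, hχ, ← IsScalarTower.algebraMap_apply A C A₀])
  let ψalg : R →ₐ[A] C' := { ψ with commutes' := fun a => hψr a }
  have hψalg : Function.Surjective ψalg := hψ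
  constructor
  · obtain ⟨ρ, hρ1, hρ2⟩ := exists_local_lift_of_chart A C Aloc A₀loc C' R π hπsurj hπsq χ ψalg
      hψalg (fun r hr => by
        have : r ∈ RingHom.ker ψ := RingHom.mem_ker.mpr hr
        rw [hker] at this
        exact this)
      (fun a => by
        show χ (algebraMap C C' (algebraMap A C a)) = _
        rw [hχ, hπ, ← IsScalarTower.algebraMap_apply A C A₀])
    refine ⟨ρ, hρ1, fun k hk => ?_⟩
    rw [hρ2, hχ, hk, map_zero]
  · exact projective_baseChange_cotangentSpace_of_chart A C A₀ hC C' A₀loc R ψalg hψalg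
      (fun _ => rfl) (hχsurj.comp hψ) hker

end Chart

/-- **Square-zero retractions from formally smooth charts.** Instance-free form. -/
theorem exists_retraction_of_charts
    (A C A₀ : Type u) [CommRing A] [CommRing C] [CommRing A₀]
    (φ : A →+* C) (κ : C →+* A₀)
    (hsurj : Function.Surjective (κ.comp φ))
    (hI : ∀ x y : A, κ (φ x) = 0 → κ (φ y) = 0 → x * y = 0)
    {ι : Type u} [Finite ι] (g : ι → A) (hg : Ideal.span (Set.range g) = ⊤)
    (Aloc A₀loc C' R : ι → Type u) [∀ j, CommRing (Aloc j)] [∀ j, CommRing (A₀loc j)]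
    [∀ j, CommRing (C' j)] [∀ j, CommRing (R j)]
    (lA : ∀ j, A →+* Aloc j)
    (hlA : ∀ j, @IsLocalization.Away A _ (g j) (Aloc j) _ (lA j).toAlgebra)
    (lA₀ : ∀ j, A₀ →+* A₀loc j)
    (hlA₀ : ∀ j, @IsLocalization.Away A₀ _ (κ (φ (g j))) (A₀loc j) _ (lA₀ j).toAlgebra)
    (lC : ∀ j, C →+* C' j)
    (hlC : ∀ j, @IsLocalization.Away C _ (φ (g j)) (C' j) _ (lC j).toAlgebra)
    (π : ∀ j, Aloc j →+* A₀loc j) (hπ : ∀ j a, π j (lA j a) = lA₀ j (κ (φ a)))
    (χ : ∀ j, C' j →+* A₀loc j) (hχ : ∀ j c, χ j (lC j c) = lA₀ j (κ c))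
    (r : ∀ j, A →+* R j) (hr : ∀ j, (r j).FormallySmooth)
    (ψ : ∀ j, R j →+* C' j) (hψ : ∀ j, Function.Surjective (ψ j))
    (hψr : ∀ j a, ψ j (r j a) = lC j (φ a))
    (hker : ∀ j, RingHom.ker (ψ j) = (RingHom.ker ((χ j).comp (ψ j))) ^ 2) :
    ∃ ρ : C →+* A, (∀ a, ρ (φ a) = a) ∧ ∀ c, κ (φ (ρ c)) = κ c := by
  letI : Algebra A C := φ.toAlgebra
  letI : Algebra C A₀ := κ.toAlgebra
  letI : Algebra A A₀ := (κ.comp φ).toAlgebra
  haveI : IsScalarTower A C A₀ := IsScalarTower.of_algebraMap_eq' rfl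
  letI : ∀ j, Algebra A (Aloc j) := fun j => (lA j).toAlgebra
  letI : ∀ j, Algebra A₀ (A₀loc j) := fun j => (lA₀ j).toAlgebra
  letI : ∀ j, Algebra C (C' j) := fun j => (lC j).toAlgebra
  haveI : ∀ j, IsLocalization.Away (g j) (Aloc j) := hlA
  haveI : ∀ j, IsLocalization.Away (algebraMap A A₀ (g j)) (A₀loc j) := hlA₀
  haveI : ∀ j, IsLocalization.Away (algebraMap A C (g j)) (C' j) := hlC
  have key := fun j => chart_lift_and_projective A C A₀ hsurj hI (g j) (Aloc j) (A₀loc j) (C' j)
    (R j) (π j) (hπ j) (χ j) (hχ j) (r j) (hr j) (ψ j) (hψ j) (hψr j) (hker j)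
  obtain ⟨ρ, hρ⟩ := exists_retraction_of_local A C A₀ hsurj hI g hg Aloc A₀loc π hπ
    (fun j => (key j).1) (fun j => (key j).2)
  exact ⟨ρ.toRingHom, fun a => ρ.commutes a, hρ⟩

end Groth.Agent.Lib.Helper7.SqZero
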