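import Mathlib
import Groth.Agent.Lib.Helper7.SqZero.Wrapper

/-!
# Scheme-level charts for the square-zero lifting theorem
-/

set_option autoImplicit false

namespace Groth.Agent.Lib.Helper7.SqZero

universe u

open AlgebraicGeometry CategoryTheory Limits TopologicalSpace Opposite

/-- Morphisms between affine schemes from ring maps on global sections. -/
theorem exists_hom_of_appTop {X Y : Scheme.{u}} [IsAffine X] [IsAffine Y]
    (ρ : Γ(Y, ⊤) ⟶ Γ(X, ⊤)) : ∃ f : X ⟶ Y, f.appTop = ρ := by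
  refine ⟨X.isoSpec.hom ≫ Spec.map ρ ≫ Y.isoSpec.inv, ?_⟩
  apply Spec.map_injective
  rw [← cancel_epi X.isoSpec.hom, Scheme.isoSpec_hom_naturality]
  simp

theorem appLE_congr_hom {X Y : Scheme.{u}} {f g : X ⟶ Y} (e : f = g) (U : Y.Opens) (V : X.Opens)
    (h : V ≤ f ⁻¹ᵁ U) : f.appLE U V h = g.appLE U V (e ▸ h) := by
  subst e; rfl

theorem ker_appLE_of_eq {X Y : Scheme.{u}} (f : X ⟶ Y) (V : Y.Opens) (U : X.Opens)
    (h : U = f ⁻¹ᵁ V) :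
    RingHom.ker (f.appLE V U h.le).hom = RingHom.ker (f.app V).hom := by
  subst h
  rw [Scheme.Hom.appLE_eq_app]

theorem surjective_appLE_of_eq {X Y : Scheme.{u}} (f : X ⟶ Y) (V : Y.Opens) (U : X.Opens)
    (h : U = f ⁻¹ᵁ V) (hs : Function.Surjective (f.app V)) :
    Function.Surjective (f.appLE V U h.le) := by
  subst h
  rw [Scheme.Hom.appLE_eq_app]
  exact hs

theorem appLE_res_top {X Y : Scheme.{u}} (f : X ⟶ Y) (V : Y.Opens) (U : X.Opens)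
    (e : U ≤ f ⁻¹ᵁ V) (a : Γ(Y, ⊤)) :
    (f.appLE V U e).hom ((Y.presheaf.map (homOfLE (le_top : V ≤ ⊤)).op).hom a) =
      (X.presheaf.map (homOfLE (le_top : U ≤ ⊤)).op).hom (f.appTop.hom a) := by
  have e1 : Y.presheaf.map (homOfLE (le_top : V ≤ ⊤)).op ≫ f.appLE V U e =
      f.appLE ⊤ U le_top := Scheme.Hom.map_appLE ..
  have e2 : f.appTop ≫ X.presheaf.map (homOfLE (le_top : U ≤ ⊤)).op = f.appLE ⊤ U le_top := rfl
  exact (congrArg (fun f => f.hom a) e1).trans (congrArg (fun f => f.hom a) e2).symm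

theorem appLE_comp_apply_top {X Y Z : Scheme.{u}} (f : X ⟶ Y) (g : Y ⟶ Z) (V : Y.Opens)
    (U : X.Opens) (e : U ≤ f ⁻¹ᵁ V) (a : Γ(Z, ⊤)) :
    (f.appLE V U e).hom ((g.appLE ⊤ V le_top).hom a) =
      (X.presheaf.map (homOfLE (le_top : U ≤ ⊤)).op).hom ((f ≫ g).appTop.hom a) := by
  have e1 : g.appLE ⊤ V le_top ≫ f.appLE V U e = (f ≫ g).appLE ⊤ U le_top :=
    Scheme.Hom.appLE_comp_appLE ..
  have e2 : (f ≫ g).appTop ≫ X.presheaf.map (homOfLE (le_top : U ≤ ⊤)).op =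
      (f ≫ g).appLE ⊤ U le_top := rfl
  exact (congrArg (fun f => f.hom a) e1).trans (congrArg (fun f => f.hom a) e2).symm

/-- The local chart around a point of `T₀`. -/
theorem exists_chart {Z T T₀ P₁ : Scheme.{u}} [IsAffine T] [IsAffine T₀]
    (p : Z ⟶ T) (s₀ : T₀ ⟶ Z) [IsClosedImmersion s₀] (ι₁ : P₁ ⟶ Z) [IsClosedImmersion ι₁]
    (j₁ : T₀ ⟶ P₁) (hj : j₁ ≫ ι₁ = s₀) (hj₁ : Function.Surjective j₁)
    (hker : ι₁.ker = s₀.ker ^ 2)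
    (hsurj : Function.Surjective (s₀ ≫ p).appTop)
    (t₀ : T₀) (W₀ : Z.Opens) (hW₀ : IsAffineOpen W₀) (ht₀ : s₀ t₀ ∈ W₀)
    (hFS : (p.appLE ⊤ W₀ le_top).hom.FormallySmooth) :
    ∃ (g : Γ(T, ⊤)) (W : Z.Opens) (_ : IsAffineOpen W)
      (h1 : P₁.basicOpen ((ι₁ ≫ p).appTop g) ≤ ι₁ ⁻¹ᵁ W)
      (h2 : T₀.basicOpen ((s₀ ≫ p).appTop g) ≤ s₀ ⁻¹ᵁ W),
      t₀ ∈ T₀.basicOpen ((s₀ ≫ p).appTop g) ∧ (p.appLE ⊤ W le_top).hom.FormallySmooth ∧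
      Function.Surjective (ι₁.appLE W _ h1) ∧
      RingHom.ker (ι₁.appLE W _ h1).hom = (RingHom.ker (s₀.appLE W _ h2).hom) ^ 2 := by
  obtain ⟨g₀, hg₀le, hg₀mem⟩ := (isAffineOpen_top T₀).exists_basicOpen_le
    (V := s₀ ⁻¹ᵁ W₀) ⟨t₀, ht₀⟩ (Opens.mem_top _)
  obtain ⟨g, rfl⟩ := hsurj g₀
  let h : Γ(Z, W₀) := p.appLE ⊤ W₀ le_top g
  have hW : IsAffineOpen (Z.basicOpen h) := hW₀.basicOpen h
  have hWeq : Z.basicOpen h = W₀ ⊓ p ⁻¹ᵁ (T.basicOpen g) := Scheme.basicOpen_appLE p W₀ ⊤ le_top g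
  have h2 : s₀ ⁻¹ᵁ (Z.basicOpen h) = T₀.basicOpen ((s₀ ≫ p).appTop g) := by
    rw [hWeq, Scheme.Hom.preimage_inf, ← Scheme.Hom.comp_preimage, Scheme.preimage_basicOpen_top]
    exact inf_eq_right.mpr hg₀le
  have h1 : ι₁ ⁻¹ᵁ (Z.basicOpen h) = P₁.basicOpen ((ι₁ ≫ p).appTop g) := by
    have key : j₁ ⁻¹ᵁ (ι₁ ⁻¹ᵁ (Z.basicOpen h)) =
        j₁ ⁻¹ᵁ (P₁.basicOpen ((ι₁ ≫ p).appTop g)) := by
      rw [← Scheme.Hom.comp_preimage, Scheme.preimage_basicOpen_top,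
        ← CommRingCat.comp_apply, ← Scheme.Hom.comp_appTop, ← Category.assoc]
      rw [hj]
      exact h2
    refine TopologicalSpace.Opens.ext (Set.ext fun x => ?_)
    obtain ⟨t, rfl⟩ := hj₁ x
    exact iff_of_eq (congrArg (fun O : T₀.Opens => t ∈ O) key)
  refine ⟨g, Z.basicOpen h, hW, h1.ge, h2.ge, hg₀mem, ?_, ?_, ?_⟩
  · have e : p.appLE ⊤ (Z.basicOpen h) le_top =
        p.appLE ⊤ W₀ le_top ≫ Z.presheaf.map (homOfLE (Z.basicOpen_le h)).op := by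
      rw [Scheme.Hom.appLE_map]
    rw [e, CommRingCat.hom_comp]
    refine hFS.comp ?_
    haveI := hW₀.isLocalization_basicOpen h
    exact RingHom.FormallySmooth.holdsForLocalizationAway _ h
  · exact surjective_appLE_of_eq ι₁ _ _ h1.symm (ι₁.app_surjective _ hW)
  · rw [ker_appLE_of_eq ι₁ _ _ h1.symm, ker_appLE_of_eq s₀ _ _ h2.symm,
      ← Scheme.Hom.ker_apply ι₁ ⟨_, hW⟩, hker, Scheme.IdealSheafData.ideal_pow, Pi.pow_apply,
      Scheme.Hom.ker_apply]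

end Groth.Agent.Lib.Helper7.SqZero
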