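import Mathlib
import Groth.Agent.Lib.Helper7.SqZero.SchemeChart
import Groth.Agent.Lib.Helper18.ThickAffine

/-!
# Sections through square-zero thickenings: the closed immersion case
-/

set_option autoImplicit false

namespace Groth.Agent.Lib.Helper7.SqZero

universe u

open AlgebraicGeometry CategoryTheory Limits TopologicalSpace Opposite

theorem away_of_eq {R S : Type*} [CommRing R] [CommRing S] [Algebra R S] {x y : R} (h : x = y)
    (hx : IsLocalization.Away x S) : IsLocalization.Away y S := h ▸ hx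

theorem comp_appLE_hom {X Y Z : Scheme.{u}} (f : X ⟶ Y) (g : Y ⟶ Z) (h : X ⟶ Z) (hfg : f ≫ g = h)
    (W : Z.Opens) (V : Y.Opens) (U : X.Opens) (e1 : V ≤ g ⁻¹ᵁ W) (e2 : U ≤ f ⁻¹ᵁ V)
    (e3 : U ≤ h ⁻¹ᵁ W) :
    (f.appLE V U e2).hom.comp (g.appLE W V e1).hom = (h.appLE W U e3).hom := by
  subst hfg
  rw [← CommRingCat.hom_comp, Scheme.Hom.appLE_comp_appLE]

/-- Auxiliary form of `exists_section_of_isClosedImmersion` with an abstract first-order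
neighbourhood `P₁`. -/
theorem exists_section_aux {Z T T₀ P₁ : Scheme.{u}} [IsAffine T] [IsAffine T₀] [IsAffine P₁]
    (p : Z ⟶ T) (s₀ : T₀ ⟶ Z) [IsClosedImmersion s₀] (ι₁ : P₁ ⟶ Z) [IsClosedImmersion ι₁]
    (j₁ : T₀ ⟶ P₁) (hj : j₁ ≫ ι₁ = s₀) (hj₁ : Function.Surjective j₁)
    (hkerι : ι₁.ker = s₀.ker ^ 2)
    (hsurj : Function.Surjective (s₀ ≫ p).appTop)
    (hI : ∀ x y : Γ(T, ⊤), (s₀ ≫ p).appTop x = 0 → (s₀ ≫ p).appTop y = 0 → x * y = 0)
    (hloc : ∀ t₀ : T₀, ∃ W : Z.Opens, IsAffineOpen W ∧ s₀ t₀ ∈ W ∧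
      (p.appLE ⊤ W le_top).hom.FormallySmooth) :
    ∃ s : T ⟶ Z, s ≫ p = 𝟙 T ∧ (s₀ ≫ p) ≫ s = s₀ := by
  classical
  let φ : Γ(T, ⊤) →+* Γ(P₁, ⊤) := (ι₁ ≫ p).appTop.hom
  let κ : Γ(P₁, ⊤) →+* Γ(T₀, ⊤) := j₁.appTop.hom
  have hκφ : ∀ a, κ (φ a) = (s₀ ≫ p).appTop a := by
    intro a
    have e : (ι₁ ≫ p).appTop ≫ j₁.appTop = (s₀ ≫ p).appTop := by
      rw [← Scheme.Hom.comp_appTop, ← Category.assoc, hj]
    exact congrArg (fun f : Γ(T, ⊤) ⟶ Γ(T₀, ⊤) => f.hom a) e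
  -- charts
  have hchart : ∀ t₀ : T₀, ∃ (g : Γ(T, ⊤)) (W : Z.Opens) (_ : IsAffineOpen W)
      (h1 : P₁.basicOpen ((ι₁ ≫ p).appTop g) ≤ ι₁ ⁻¹ᵁ W)
      (h2 : T₀.basicOpen ((s₀ ≫ p).appTop g) ≤ s₀ ⁻¹ᵁ W),
      t₀ ∈ T₀.basicOpen ((s₀ ≫ p).appTop g) ∧ (p.appLE ⊤ W le_top).hom.FormallySmooth ∧
      Function.Surjective (ι₁.appLE W _ h1) ∧
      RingHom.ker (ι₁.appLE W _ h1).hom = (RingHom.ker (s₀.appLE W _ h2).hom) ^ 2 := by
    intro t₀
    obtain ⟨W₀, hW₀, ht₀, hFS⟩ := hloc t₀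
    exact exists_chart p s₀ ι₁ j₁ hj hj₁ hkerι hsurj t₀ W₀ hW₀ ht₀ hFS
  choose g W hW h1 h2 hmem hFS hψsurj hψker using hchart
  have hspan₀ : Ideal.span (Set.range fun t => (s₀ ≫ p).appTop (g t)) = ⊤ := by
    rw [← (isAffineOpen_top T₀).self_le_iSup_basicOpen_iff]
    intro t _
    rw [Opens.mem_iSup]
    exact ⟨⟨_, t, rfl⟩, hmem t⟩
  have hspan : Ideal.span (Set.range g) = ⊤ := by
    have h1' : (1 : Γ(T₀, ⊤)) ∈ Ideal.map (s₀ ≫ p).appTop.hom (Ideal.span (Set.range g)) := by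
      rw [Ideal.map_span, ← Set.range_comp]
      have : Ideal.span (Set.range ((s₀ ≫ p).appTop.hom ∘ g)) = ⊤ := hspan₀
      rw [this]
      trivial
    obtain ⟨a, ha, ha1⟩ := (Ideal.mem_map_iff_of_surjective _ hsurj).mp h1'
    have hz : (1 - a) * (1 - a) = 0 := by
      have h0 : (s₀ ≫ p).appTop (1 - a) = 0 := by
        rw [map_sub, map_one]
        exact sub_eq_zero.mpr ha1.symm
      exact hI _ _ h0 h0
    rw [Ideal.eq_top_iff_one]
    have : (1 : Γ(T, ⊤)) = a * (2 - a) := by linear_combination hz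
    rw [this]
    exact Ideal.mul_mem_right _ _ ha
  obtain ⟨s', hs', hs'top⟩ := (Ideal.span_eq_top_iff_finite _).mp hspan
  have hpick : ∀ x : (s' : Set Γ(T, ⊤)), ∃ t, g t = x.1 := fun x => hs' x.2
  choose τ hτ using hpick
  have hgτ : Ideal.span (Set.range fun j : (s' : Set Γ(T, ⊤)) => g (τ j)) = ⊤ := by
    have : (Set.range fun j : (s' : Set Γ(T, ⊤)) => g (τ j)) = (s' : Set _) := by
      ext x
      constructor
      · rintro ⟨j, rfl⟩
        show g (τ j) ∈ _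
        rw [hτ]
        exact j.2
      · intro hx
        exact ⟨⟨x, hx⟩, hτ ⟨x, hx⟩⟩
    rw [this]
    exact hs'top
  -- the ring-level theorem
  obtain ⟨ρ, hρ1, hρ2⟩ := exists_retraction_of_charts Γ(T, ⊤) Γ(P₁, ⊤) Γ(T₀, ⊤) φ κ
    (fun y => by
      obtain ⟨a, ha⟩ := hsurj y
      exact ⟨a, (hκφ a).trans ha⟩)
    (fun x y hx hy => hI x y ((hκφ x).symm.trans hx) ((hκφ y).symm.trans hy))
    (ι := (s' : Set Γ(T, ⊤))) (fun j => g (τ j)) hgτ
    (fun j => Γ(T, T.basicOpen (g (τ j))))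
    (fun j => Γ(T₀, T₀.basicOpen ((s₀ ≫ p).appTop (g (τ j)))))
    (fun j => Γ(P₁, P₁.basicOpen ((ι₁ ≫ p).appTop (g (τ j)))))
    (fun j => Γ(Z, W (τ j)))
    (fun j => (T.presheaf.map (homOfLE (T.basicOpen_le (g (τ j)))).op).hom)
    (fun j => (isAffineOpen_top T).isLocalization_basicOpen (g (τ j)))
    (fun j => (T₀.presheaf.map (homOfLE (T₀.basicOpen_le ((s₀ ≫ p).appTop (g (τ j))))).op).hom)
    (fun j => away_of_eq (hκφ (g (τ j))).symm
      ((isAffineOpen_top T₀).isLocalization_basicOpen ((s₀ ≫ p).appTop (g (τ j)))))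
    (fun j => (P₁.presheaf.map (homOfLE (P₁.basicOpen_le ((ι₁ ≫ p).appTop (g (τ j))))).op).hom)
    (fun j => (isAffineOpen_top P₁).isLocalization_basicOpen ((ι₁ ≫ p).appTop (g (τ j))))
    (fun j => ((s₀ ≫ p).appLE (T.basicOpen (g (τ j))) (T₀.basicOpen ((s₀ ≫ p).appTop (g (τ j))))
      (Scheme.preimage_basicOpen_top _ _).ge).hom)
    (fun j a => by
      rw [hκφ]
      exact appLE_res_top (s₀ ≫ p) _ _ _ a)
    (fun j => (j₁.appLE (P₁.basicOpen ((ι₁ ≫ p).appTop (g (τ j))))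
      (T₀.basicOpen ((s₀ ≫ p).appTop (g (τ j))))
      (by
        rw [Scheme.preimage_basicOpen_top]
        exact (congrArg T₀.basicOpen (hκφ (g (τ j)))).ge)).hom)
    (fun j c => appLE_res_top j₁ _ _ _ c)
    (fun j => (p.appLE ⊤ (W (τ j)) le_top).hom) (fun j => hFS (τ j))
    (fun j => (ι₁.appLE (W (τ j)) _ (h1 (τ j))).hom) (fun j => hψsurj (τ j))
    (fun j a => appLE_comp_apply_top ι₁ p _ _ _ a)
    (fun j => (hψker (τ j)).trans (congrArg (fun f => RingHom.ker f ^ 2)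
      (comp_appLE_hom j₁ ι₁ s₀ hj _ _ _ _ _ (h2 (τ j))).symm))
  obtain ⟨σ, hσ⟩ := exists_hom_of_appTop (X := T) (Y := P₁) (CommRingCat.ofHom ρ)
  refine ⟨σ ≫ ι₁, ?_, ?_⟩
  · apply ext_of_isAffine
    rw [Category.assoc, Scheme.Hom.comp_appTop, hσ]
    ext a
    exact hρ1 a
  · have : (s₀ ≫ p) ≫ σ = j₁ := by
      apply ext_of_isAffine
      rw [Scheme.Hom.comp_appTop, hσ]
      ext c
      show (s₀ ≫ p).appTop (ρ c) = j₁.appTop c
      rw [← hκφ]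
      exact hρ2 c
    rw [← Category.assoc, this, hj]

/-- **Lifting sections through a square-zero thickening** (closed immersion case). -/
theorem exists_section_of_isClosedImmersion
    {Z T T₀ : Scheme.{u}} [IsAffine T] [IsAffine T₀]
    (p : Z ⟶ T) (s₀ : T₀ ⟶ Z) [IsClosedImmersion s₀]
    (hsurj : Function.Surjective (s₀ ≫ p).appTop)
    (hI : ∀ x y : Γ(T, ⊤), (s₀ ≫ p).appTop x = 0 → (s₀ ≫ p).appTop y = 0 → x * y = 0)
    (hloc : ∀ t₀ : T₀, ∃ W : Z.Opens, IsAffineOpen W ∧ s₀ t₀ ∈ W ∧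
      (p.appLE ⊤ W le_top).hom.FormallySmooth) :
    ∃ s : T ⟶ Z, s ≫ p = 𝟙 T ∧ (s₀ ≫ p) ≫ s = s₀ := by
  classical
  let 𝒥 : Z.IdealSheafData := s₀.ker ^ 2
  let P₁ : Scheme.{u} := 𝒥.subscheme
  let ι₁ : P₁ ⟶ Z := 𝒥.subschemeι
  have hkerι : ι₁.ker = s₀.ker ^ 2 := 𝒥.ker_subschemeι
  have hle : ι₁.ker ≤ s₀.ker := by
    rw [hkerι]
    intro U
    rw [Scheme.IdealSheafData.ideal_pow]
    exact Ideal.pow_le_self two_ne_zero
  let j₁ : T₀ ⟶ P₁ := IsClosedImmersion.lift ι₁ s₀ hle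
  have hj : j₁ ≫ ι₁ = s₀ := IsClosedImmersion.lift_fac _ _ _
  haveI : IsClosedImmersion (j₁ ≫ ι₁) := by rw [hj]; infer_instance
  haveI : IsClosedImmersion j₁ := IsClosedImmersion.of_comp_isClosedImmersion j₁ ι₁
  have hj₁ : Function.Surjective j₁ := by
    intro x
    have hx : ι₁ x ∈ Set.range s₀ := by
      have h1 : ι₁ x ∈ (𝒥.support : Set Z) := by
        rw [← 𝒥.range_subschemeι]; exact ⟨x, rfl⟩
      rw [show 𝒥.support = s₀.ker.support from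
        Scheme.IdealSheafData.support_pow _ 2 two_ne_zero, Scheme.Hom.support_ker,
        s₀.isClosedEmbedding.isClosed_range.closure_eq] at h1
      exact h1
    obtain ⟨t, ht⟩ := hx
    refine ⟨t, ι₁.isClosedEmbedding.injective ?_⟩
    rw [← ht, ← hj]
    rfl
  haveI : IsAffine P₁ :=
    Groth.Agent.Lib.Helper18.ThickAffine.isAffine_of_isClosedImmersion_of_surjective j₁ hj₁
  exact exists_section_aux p s₀ ι₁ j₁ hj hj₁ hkerι hsurj hI hloc

/-- **Lifting sections through a square-zero thickening** (immersion case). -/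
theorem exists_section_of_isImmersion
    {Z T T₀ : Scheme.{u}} [IsAffine T] [IsAffine T₀]
    (p : Z ⟶ T) (s₀ : T₀ ⟶ Z) [IsImmersion s₀]
    (hsurj : Function.Surjective (s₀ ≫ p).appTop)
    (hI : ∀ x y : Γ(T, ⊤), (s₀ ≫ p).appTop x = 0 → (s₀ ≫ p).appTop y = 0 → x * y = 0)
    (hloc : ∀ t₀ : T₀, ∃ W : Z.Opens, IsAffineOpen W ∧ s₀ t₀ ∈ W ∧
      (p.appLE ⊤ W le_top).hom.FormallySmooth) :
    ∃ s : T ⟶ Z, s ≫ p = 𝟙 T ∧ (s₀ ≫ p) ≫ s = s₀ := by
  have hc : s₀.liftCoborder ≫ s₀.coborderRange.ι = s₀ := s₀.liftCoborder_ι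
  have hcp : s₀.liftCoborder ≫ (s₀.coborderRange.ι ≫ p) = s₀ ≫ p := by
    rw [← Category.assoc, hc]
  have hloc' : ∀ t₀ : T₀, ∃ W : s₀.coborderRange.toScheme.Opens, IsAffineOpen W ∧
      s₀.liftCoborder t₀ ∈ W ∧
      ((s₀.coborderRange.ι ≫ p).appLE ⊤ W le_top).hom.FormallySmooth := by
    intro t₀
    obtain ⟨W, hW, ht₀, hFS⟩ := hloc t₀
    have hmem𝒰 : s₀ t₀ ∈ s₀.coborderRange := by
      have : s₀ t₀ = s₀.coborderRange.ι (s₀.liftCoborder t₀) := by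
        rw [← Scheme.Hom.comp_apply, hc]
      rw [this]
      exact (s₀.liftCoborder t₀).2
    obtain ⟨f, hfle, hfmem⟩ := hW.exists_basicOpen_le (V := W ⊓ s₀.coborderRange)
      ⟨s₀ t₀, ⟨ht₀, hmem𝒰⟩⟩ ht₀
    have hW₁ : IsAffineOpen (Z.basicOpen f) := hW.basicOpen f
    have hle𝒰 : Z.basicOpen f ≤ s₀.coborderRange.ι.opensRange := by
      rw [Scheme.Opens.opensRange_ι]
      exact hfle.trans inf_le_right
    refine ⟨s₀.coborderRange.ι ⁻¹ᵁ Z.basicOpen f,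
      hW₁.preimage_of_isOpenImmersion s₀.coborderRange.ι hle𝒰, ?_, ?_⟩
    · show s₀.coborderRange.ι (s₀.liftCoborder t₀) ∈ Z.basicOpen f
      rw [← Scheme.Hom.comp_apply, hc]
      exact hfmem
    · have e : (s₀.coborderRange.ι ≫ p).appLE ⊤ (s₀.coborderRange.ι ⁻¹ᵁ Z.basicOpen f) le_top =
          (p.appLE ⊤ W le_top ≫ Z.presheaf.map (homOfLE (Z.basicOpen_le f)).op) ≫
            s₀.coborderRange.ι.app (Z.basicOpen f) := by
        rw [Scheme.Hom.appLE_map, Scheme.Hom.app_eq_appLE, Scheme.Hom.appLE_comp_appLE]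
      rw [e, CommRingCat.hom_comp, CommRingCat.hom_comp]
      refine (hFS.comp ?_).comp ?_
      · haveI := hW.isLocalization_basicOpen f
        exact RingHom.FormallySmooth.holdsForLocalizationAway _ f
      · haveI := s₀.coborderRange.ι.isIso_app _ hle𝒰
        exact RingHom.FormallySmooth.of_bijective (ConcreteCategory.bijective_of_isIso _)

  obtain ⟨s', hs'1, hs'2⟩ := exists_section_of_isClosedImmersion (s₀.coborderRange.ι ≫ p)
    s₀.liftCoborder (by rw [hcp]; exact hsurj) (by rw [hcp]; exact hI) hloc'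
  refine ⟨s' ≫ s₀.coborderRange.ι, by rw [Category.assoc]; exact hs'1, ?_⟩
  rw [← hcp, ← Category.assoc, hs'2, hc]

end Groth.Agent.Lib.Helper7.SqZero
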