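import Mathlib
import Groth.Prelude.Def_MoreMor
import Groth.Agent.Lib.Helper7.SqZero.SchemeSection
import Groth.Agent.Lib.Helper7.FormallySmoothLift

/-!
# Formally smooth morphisms of schemes: affine-local formal smoothness implies the lifting property
-/

set_option autoImplicit false

namespace Groth.Agent.Lib.Helper7.SqZero

universe u

open AlgebraicGeometry CategoryTheory Limits TopologicalSpace Opposite

theorem formallySmooth_stableUnderCobaseChange :
    (RingHom.toMorphismProperty.{u} @RingHom.FormallySmooth).IsStableUnderCobaseChange :=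
  RingHom.isStableUnderCobaseChange_toMorphismProperty_iff.mpr
    RingHom.FormallySmooth.isStableUnderBaseChange

/-- Product charts of a fibre product are affine with formally smooth coordinate ring. -/
theorem exists_chart_pullback {X Y T : Scheme.{u}} [IsAffine T] (f : X ⟶ Y) (b : T ⟶ Y)
    (H : ∀ (U : X.Opens) (V : Y.Opens) (_ : IsAffineOpen U) (_ : IsAffineOpen V)
      (hUV : U ≤ f ⁻¹ᵁ V), (f.appLE V U hUV).hom.FormallySmooth)
    (z : ↥(pullback f b)) :
    ∃ W : (pullback f b).Opens, IsAffineOpen W ∧ z ∈ W ∧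
      ((pullback.snd f b).appLE ⊤ W le_top).hom.FormallySmooth := by
  set x : X := pullback.fst f b z with hx
  set t : T := pullback.snd f b z with ht
  have hxt : f x = b t := by
    rw [hx, ht, ← Scheme.Hom.comp_apply, ← Scheme.Hom.comp_apply, pullback.condition]
  obtain ⟨_, ⟨V, hV, rfl⟩, hyV, -⟩ := Y.isBasis_affineOpens.exists_subset_of_mem_open
    (Set.mem_univ (f x)) isOpen_univ
  obtain ⟨_, ⟨U, hU, rfl⟩, hxU, hUV⟩ := X.isBasis_affineOpens.exists_subset_of_mem_open
    (show x ∈ ((f ⁻¹ᵁ V : X.Opens) : Set X) from hyV) (f ⁻¹ᵁ V).isOpen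
  have htV : t ∈ b ⁻¹ᵁ V := by
    show b t ∈ V
    rw [← hxt]
    exact hyV
  obtain ⟨g, hgle, hgmem⟩ := (isAffineOpen_top T).exists_basicOpen_le (V := b ⁻¹ᵁ V)
    ⟨t, htV⟩ (Opens.mem_top _)
  have hD : IsAffineOpen (T.basicOpen g) := (isAffineOpen_top T).basicOpen g
  have HP := IsPullback.of_hasPullback f b
  have hUV' : U ≤ f ⁻¹ᵁ V := hUV
  have hWaff : IsAffineOpen (pullback.fst f b ⁻¹ᵁ U ⊓ pullback.snd f b ⁻¹ᵁ T.basicOpen g) := by
    have : IsAffine _ := hV
    have : IsAffine _ := hD
    have : IsAffine _ := hU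
    exact .of_isIso (Scheme.Hom.isPullback_resLE HP hgle hUV' rfl).isoPullback.hom
  have sq := (isIso_pushoutSection_iff HP hgle hUV' rfl).mp
    (isIso_pushoutSection_of_isAffineOpen HP hgle hUV' rfl hV hD hU)
  refine ⟨_, hWaff, ⟨hxU, hgmem⟩, ?_⟩
  have e : (pullback.snd f b).appLE ⊤
      (pullback.fst f b ⁻¹ᵁ U ⊓ pullback.snd f b ⁻¹ᵁ T.basicOpen g) le_top =
      T.presheaf.map (homOfLE (le_top : T.basicOpen g ≤ ⊤)).op ≫
        (pullback.snd f b).appLE (T.basicOpen g) _ inf_le_right := by
    rw [Scheme.Hom.map_appLE]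
  rw [e, CommRingCat.hom_comp]
  refine RingHom.FormallySmooth.comp ?_ ?_
  · haveI := (isAffineOpen_top T).isLocalization_basicOpen g
    exact RingHom.FormallySmooth.holdsForLocalizationAway _ g
  · exact formallySmooth_stableUnderCobaseChange.of_isPushout sq.flip (H U V hU hV hUV')

/-- Affine-local formal smoothness implies the infinitesimal lifting property. -/
theorem isFormallySmoothHom_of_ringLevel {X Y : Scheme.{u}} (f : X ⟶ Y)
    (H : ∀ (U : X.Opens) (V : Y.Opens) (_ : IsAffineOpen U) (_ : IsAffineOpen V)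
      (hUV : U ≤ f ⁻¹ᵁ V), (f.appLE V U hUV).hom.FormallySmooth) :
    MoreMor.IsFormallySmoothHom f := by
  intro A _ I hI a b comm
  haveI hci : IsClosedImmersion (Spec.map (CommRingCat.ofHom (Ideal.Quotient.mk I))) :=
    IsClosedImmersion.spec_of_surjective _ Ideal.Quotient.mk_surjective
  have hs₀p : pullback.lift a (Spec.map (CommRingCat.ofHom (Ideal.Quotient.mk I))) comm.symm ≫
      pullback.snd f b = Spec.map (CommRingCat.ofHom (Ideal.Quotient.mk I)) :=
    pullback.lift_snd ..
  have hs₀a : pullback.lift a (Spec.map (CommRingCat.ofHom (Ideal.Quotient.mk I))) comm.symm ≫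
      pullback.fst f b = a := pullback.lift_fst ..
  generalize pullback.lift a (Spec.map (CommRingCat.ofHom (Ideal.Quotient.mk I))) comm.symm = s₀
    at hs₀p hs₀a
  haveI : IsImmersion (s₀ ≫ pullback.snd f b) := by rw [hs₀p]; infer_instance
  haveI : IsImmersion s₀ := IsImmersion.of_comp s₀ (pullback.snd f b)
  have hsurj : Function.Surjective (s₀ ≫ pullback.snd f b).appTop := by
    rw [hs₀p]
    exact Scheme.Hom.app_surjective _ ⊤ (isAffineOpen_top _)
  have hI' : ∀ x y : Γ(Spec (CommRingCat.of A), ⊤), (s₀ ≫ pullback.snd f b).appTop x = 0 →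
      (s₀ ≫ pullback.snd f b).appTop y = 0 → x * y = 0 := by
    rw [hs₀p]
    intro x y hx hy
    have hnat := Scheme.ΓSpecIso_naturality (CommRingCat.ofHom (Ideal.Quotient.mk I))
    have hmem : ∀ z : Γ(Spec (CommRingCat.of A), ⊤),
        (Spec.map (CommRingCat.ofHom (Ideal.Quotient.mk I))).appTop z = 0 →
        (Scheme.ΓSpecIso (CommRingCat.of A)).hom z ∈ I := by
      intro z hz
      have h1 := congrArg (fun φ => φ.hom z) hnat
      simp only [CommRingCat.hom_comp, RingHom.comp_apply] at h1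
      rw [hz, map_zero] at h1
      exact Ideal.Quotient.eq_zero_iff_mem.mp h1.symm
    have h2 : (Scheme.ΓSpecIso (CommRingCat.of A)).hom (x * y) = 0 := by
      rw [map_mul]
      have : (Scheme.ΓSpecIso (CommRingCat.of A)).hom x *
          (Scheme.ΓSpecIso (CommRingCat.of A)).hom y ∈ I ^ 2 := by
        rw [pow_two]
        exact Ideal.mul_mem_mul (hmem x hx) (hmem y hy)
      rw [hI] at this
      exact this
    exact (map_eq_zero_iff _
      (ConcreteCategory.bijective_of_isIso (Scheme.ΓSpecIso (CommRingCat.of A)).hom).1).mp h2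
  obtain ⟨s, hs1, hs2⟩ := exists_section_of_isImmersion (pullback.snd f b) s₀ hsurj hI'
    (fun t₀ => exists_chart_pullback f b H (s₀ t₀))
  refine ⟨s ≫ pullback.fst f b, ?_, ?_⟩
  · rw [← hs₀p, ← Category.assoc, hs2, hs₀a]
  · rw [Category.assoc, pullback.condition, ← Category.assoc, hs1, Category.id_comp]

end Groth.Agent.Lib.Helper7.SqZero
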