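import Mathlib
import Groth.Agent.Lib.Helper7.SqZero.Wrapper

/-!
# Gluing local retractions when the cotangent space is finitely presented
-/

set_option autoImplicit false

namespace Groth.Agent.Lib.Helper7.SqZero

universe u

open TensorProduct KaehlerDifferential Algebra

/-- A retraction of an extension onto a subring gives a section of the cotangent complex. -/
theorem exists_section_cotangentComplex_of_retraction
    {R S : Type u} [CommRing R] [CommRing S] [Algebra R S] (P : Algebra.Extension.{u} R S)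
    (B : Type u) [CommRing B] (incl : B →+* P.Ring) (ρ : P.Ring →+* B) (π : B →+* S)
    (hπρ : ∀ c, π (ρ c) = algebraMap P.Ring S c)
    (hπincl : ∀ b, algebraMap P.Ring S (incl b) = π b)
    (hR : ∀ r : R, incl (ρ (algebraMap R P.Ring r)) = algebraMap R P.Ring r)
    (hD : ∀ b, D R P.Ring (incl b) = 0) :
    ∃ σ : P.CotangentSpace →ₗ[S] P.Cotangent, ∀ y, P.cotangentComplex (σ y) = y := by
  have he : ∀ c : P.Ring, c - incl (ρ c) ∈ P.ker := by
    intro c
    rw [Extension.ker, RingHom.mem_ker, map_sub, hπincl, hπρ, sub_self]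
  let D₀ : P.Ring →ₗ[R] P.Cotangent :=
    { toFun := fun c => Extension.Cotangent.mk ⟨c - incl (ρ c), he c⟩
      map_add' := fun c c' => by
        rw [← map_add]
        congr 1
        ext
        simp only [map_add, Submodule.coe_add]
        ring
      map_smul' := fun r c => by
        simp only [RingHom.id_apply]
        rw [← LinearMap.map_smul_of_tower]
        congr 1
        ext
        rw [Submodule.coe_smul_of_tower]
        simp only [Algebra.smul_def, map_mul, hR]
        ring }
  have hleib : ∀ c c', D₀ (c * c') = c • D₀ c' + c' • D₀ c := by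
    intro c c'
    have h1 : c' • D₀ c = incl (ρ c') • D₀ c := by
      rw [← algebraMap_smul S c', ← algebraMap_smul S (incl (ρ c')), hπincl, hπρ]
    rw [h1]
    show Extension.Cotangent.mk _ = c • Extension.Cotangent.mk _ +
      incl (ρ c') • Extension.Cotangent.mk _
    rw [← map_smul, ← map_smul, ← map_add]
    congr 1
    ext
    simp only [map_mul, Submodule.coe_add, SetLike.val_smul, smul_eq_mul]
    ring
  let Dder : Derivation R P.Ring P.Cotangent := Derivation.mk' D₀ hleib
  let β : P.CotangentSpace →ₗ[S] P.Cotangent := Dder.liftKaehlerDifferential.liftBaseChange S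
  refine ⟨β, ?_⟩
  have key : ∀ (ω : Ω[P.Ring⁄R]) (s : S), P.cotangentComplex (β (s ⊗ₜ ω)) = s ⊗ₜ ω := by
    intro ω
    have hω : ω ∈ Submodule.span P.Ring (Set.range (D R P.Ring)) := by
      rw [KaehlerDifferential.span_range_derivation]; trivial
    induction hω using Submodule.span_induction with
    | mem ω h =>
      obtain ⟨c, rfl⟩ := h
      intro s
      rw [LinearMap.liftBaseChange_tmul, Derivation.liftKaehlerDifferential_comp_D, map_smul]
      show s • P.cotangentComplex (Extension.Cotangent.mk _) = _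
      rw [Extension.cotangentComplex_mk]
      show s • ((1 : S) ⊗ₜ[P.Ring] D R P.Ring (c - incl (ρ c))) = _
      rw [map_sub, hD, sub_zero, TensorProduct.smul_tmul', smul_eq_mul, mul_one]
    | zero =>
      intro s
      rw [TensorProduct.tmul_zero, map_zero, map_zero]
    | add x y _ _ hx hy =>
      intro s
      rw [TensorProduct.tmul_add, map_add, map_add, hx, hy]
    | smul c x _ hx =>
      intro s
      have : s ⊗ₜ[P.Ring] (c • x) = (c • s) ⊗ₜ[P.Ring] x := (TensorProduct.smul_tmul c s x).symm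
      rw [this, hx]
  intro y
  induction y using TensorProduct.induction_on with
  | zero => rw [map_zero, map_zero]
  | tmul s ω => exact key ω s
  | add x y hx hy => rw [map_add, map_add, hx, hy]

section LocCotangent

variable (A C A₀ : Type u) [CommRing A] [CommRing C] [CommRing A₀] [Algebra A C] [Algebra A A₀]
  [Algebra C A₀] [IsScalarTower A C A₀]
  (hC : Function.Surjective (algebraMap C A₀))
  (C' A₀' : Type u) [CommRing C'] [CommRing A₀']
  [Algebra A C'] [Algebra C C'] [IsScalarTower A C C']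
  [Algebra A A₀'] [Algebra A₀ A₀'] [IsScalarTower A A₀ A₀']
  [Algebra C' A₀'] [IsScalarTower A C' A₀']
  [Algebra C A₀'] [IsScalarTower C C' A₀'] [IsScalarTower C A₀ A₀']
  (hC' : Function.Surjective (algebraMap C' A₀'))

/-- The canonical morphism of extensions induced by `C → C'` and `A₀ → A₀'`. -/
noncomputable def extHom : (ext A C A₀ hC).Hom (ext A C' A₀' hC') where
  toRingHom := algebraMap C C'
  toRingHom_algebraMap := fun x => (IsScalarTower.algebraMap_apply A C C' x).symm
  algebraMap_toRingHom := fun x => by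
    show algebraMap C' A₀' (algebraMap C C' x) = algebraMap A₀ A₀' (algebraMap C A₀ x)
    rw [← IsScalarTower.algebraMap_apply, ← IsScalarTower.algebraMap_apply]

variable (x : C) [IsLocalization.Away x C'] [IsLocalization.Away (algebraMap C A₀ x) A₀']

include hC' in
omit [IsScalarTower A C C'] [IsScalarTower A A₀ A₀'] [IsScalarTower A C' A₀'] in
theorem exists_mem_ker_of_mem_ker' (k' : C') (hk' : algebraMap C' A₀' k' = 0) :
    ∃ (n : ℕ) (c : C), algebraMap C A₀ c = 0 ∧ k' * algebraMap C C' x ^ n = algebraMap C C' c := by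
  obtain ⟨n, c, hc⟩ := IsLocalization.Away.surj x k'
  have h0 : algebraMap A₀ A₀' (algebraMap C A₀ c) = 0 := by
    rw [← IsScalarTower.algebraMap_apply C A₀ A₀', IsScalarTower.algebraMap_apply C C' A₀', ← hc,
      map_mul, hk', zero_mul]
  obtain ⟨m, hm⟩ := IsLocalization.Away.exists_of_eq (algebraMap C A₀ x)
    (h0.trans (map_zero (algebraMap A₀ A₀')).symm)
  rw [mul_zero, ← map_pow, ← map_mul] at hm
  refine ⟨n + m, x ^ m * c, hm, ?_⟩
  rw [map_mul, ← hc, map_pow, pow_add]
  ring

theorem isLocalizedModule_cotangent_map :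
    IsLocalizedModule (Submonoid.powers (algebraMap C A₀ x))
      (Extension.Cotangent.map (extHom A C A₀ hC C' A₀' hC')) := by
  have hsmul : ∀ (n : ℕ) (y : (ext A C' A₀' hC').Cotangent),
      (algebraMap C A₀ x ^ n) • y = ((algebraMap C C' x) ^ n : C') • y := by
    intro n y
    rw [← algebraMap_smul A₀' (algebraMap C A₀ x ^ n) y, ← algebraMap_smul A₀' (algebraMap C C' x ^ n) y]
    congr 1
    rw [map_pow, map_pow, ← IsScalarTower.algebraMap_apply C A₀ A₀',
      ← IsScalarTower.algebraMap_apply C C' A₀']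
  have hsmul' : ∀ (n : ℕ) (y : (ext A C A₀ hC).Cotangent),
      (algebraMap C A₀ x ^ n) • y = (x ^ n : C) • y := by
    intro n y
    rw [← map_pow]
    exact algebraMap_smul A₀ (x ^ n) y
  refine ⟨?_, ?_, ?_⟩
  · rintro ⟨_, n, rfl⟩
    rw [Module.End.isUnit_iff]
    have hu : IsUnit (algebraMap C C' x ^ n) :=
      (IsLocalization.Away.algebraMap_isUnit (S := C') x).pow n
    obtain ⟨u, hu⟩ := hu
    have : (fun y : (ext A C' A₀' hC').Cotangent => (algebraMap C A₀ x ^ n) • y) =
        fun y => u • y := by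
      funext y
      rw [hsmul, ← hu]
      rfl
    show Function.Bijective fun y : (ext A C' A₀' hC').Cotangent => (algebraMap C A₀ x ^ n) • y
    rw [this]
    exact MulAction.bijective u
  · intro y
    obtain ⟨⟨k', hk'⟩, rfl⟩ := Extension.Cotangent.mk_surjective y
    obtain ⟨n, c, hc, hcn⟩ := exists_mem_ker_of_mem_ker' C A₀ C' A₀' hC' x k'
      (RingHom.mem_ker.mp hk')
    refine ⟨⟨Extension.Cotangent.mk ⟨c, RingHom.mem_ker.mpr hc⟩,
      ⟨algebraMap C A₀ x ^ n, n, rfl⟩⟩, ?_⟩
    change (algebraMap C A₀ x ^ n) •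
      (Extension.Cotangent.mk ⟨k', hk'⟩ : (ext A C' A₀' hC').Cotangent) = _
    rw [hsmul, ← map_smul, Extension.Cotangent.map_mk]
    congr 1
    ext
    show algebraMap C C' x ^ n * k' = algebraMap C C' c
    rw [← hcn]
    ring
  · intro m₁ m₂ h12
    obtain ⟨⟨k₁, hk₁⟩, rfl⟩ := Extension.Cotangent.mk_surjective m₁
    obtain ⟨⟨k₂, hk₂⟩, rfl⟩ := Extension.Cotangent.mk_surjective m₂
    rw [Extension.Cotangent.map_mk, Extension.Cotangent.map_mk,
      Extension.Cotangent.mk_eq_mk_iff_sub_mem] at h12
    -- the kernel upstairs is the extension of the kernel downstairs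
    have hker : (ext A C' A₀' hC').ker = Ideal.map (algebraMap C C') (ext A C A₀ hC).ker := by
      apply le_antisymm
      · intro k' hk'
        obtain ⟨n, c, hc, hcn⟩ := exists_mem_ker_of_mem_ker' C A₀ C' A₀' hC' x k'
          (RingHom.mem_ker.mp hk')
        have hu : IsUnit (algebraMap C C' x ^ n) :=
          (IsLocalization.Away.algebraMap_isUnit (S := C') x).pow n
        obtain ⟨u, hu⟩ := hu
        have h1 : k' = algebraMap C C' c * ((u⁻¹ : C'ˣ) : C') := by
          rw [← hcn, ← hu, mul_assoc, Units.mul_inv, mul_one]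
        rw [h1]
        exact Ideal.mul_mem_right _ _ (Ideal.mem_map_of_mem _ (RingHom.mem_ker.mpr hc))
      · rw [Ideal.map_le_iff_le_comap]
        intro k hk
        rw [Ideal.mem_comap]
        show algebraMap C' A₀' (algebraMap C C' k) = 0
        rw [← IsScalarTower.algebraMap_apply C C' A₀', IsScalarTower.algebraMap_apply C A₀ A₀',
          RingHom.mem_ker.mp hk, map_zero]
    have h12' : algebraMap C C' (k₁ - k₂) ∈
        Ideal.map (algebraMap C C') ((ext A C A₀ hC).ker ^ 2) := by
      rw [Ideal.map_pow, ← hker, map_sub]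
      exact h12
    obtain ⟨⟨⟨a, ha⟩, ⟨_, n, rfl⟩⟩, hx⟩ :=
      (IsLocalization.mem_map_algebraMap_iff (Submonoid.powers x) C').mp h12'
    rw [← map_mul] at hx
    obtain ⟨⟨_, m, rfl⟩, hm⟩ := (IsLocalization.eq_iff_exists (Submonoid.powers x) C').mp hx
    refine ⟨⟨algebraMap C A₀ x ^ (m + n), m + n, rfl⟩, ?_⟩
    change (algebraMap C A₀ x ^ (m + n)) •
        (Extension.Cotangent.mk ⟨k₁, hk₁⟩ : (ext A C A₀ hC).Cotangent) =
      (algebraMap C A₀ x ^ (m + n)) •
        (Extension.Cotangent.mk ⟨k₂, hk₂⟩ : (ext A C A₀ hC).Cotangent)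
    rw [hsmul', hsmul', ← map_smul, ← map_smul, Extension.Cotangent.mk_eq_mk_iff_sub_mem]
    show x ^ (m + n) * k₁ - x ^ (m + n) * k₂ ∈ _
    have : x ^ (m + n) * k₁ - x ^ (m + n) * k₂ = x ^ m * a := by
      rw [← hm]; ring
    rw [this]
    exact Ideal.mul_mem_left _ _ ha

end LocCotangent

section LocCotangentSpace

variable (A C A₀ : Type u) [CommRing A] [CommRing C] [CommRing A₀] [Algebra A C] [Algebra A A₀]
  [Algebra C A₀] [IsScalarTower A C A₀]
  (hC : Function.Surjective (algebraMap C A₀))
  (C' A₀' : Type u) [CommRing C'] [CommRing A₀']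
  [Algebra A C'] [Algebra C C'] [IsScalarTower A C C']
  [Algebra A A₀'] [Algebra A₀ A₀'] [IsScalarTower A A₀ A₀']
  [Algebra C' A₀'] [IsScalarTower A C' A₀']
  [Algebra C A₀'] [IsScalarTower C C' A₀'] [IsScalarTower C A₀ A₀']
  (hC' : Function.Surjective (algebraMap C' A₀'))

theorem isLocalizedModule_cotangentSpace_map [Algebra.FormallyEtale C C'] (y : A₀)
    [IsLocalization.Away y A₀'] :
    IsLocalizedModule (Submonoid.powers y)
      (Extension.CotangentSpace.map (extHom A C A₀ hC C' A₀' hC')) := by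
  have hf : (extHom A C A₀ hC C' A₀' hC').toRingHom.FormallyEtale :=
    RingHom.formallyEtale_algebraMap.mpr inferInstance
  refine (isLocalizedModule_iff_isBaseChange (Submonoid.powers y) A₀' _).mpr
    (IsBaseChange.of_equiv
      (Extension.tensorCotangentSpaceOfFormallyEtale (extHom A C A₀ hC C' A₀' hC') hf)
      (fun n => ?_))
  show ((Extension.CotangentSpace.map (extHom A C A₀ hC C' A₀' hC')).liftBaseChange A₀')
    ((1 : A₀') ⊗ₜ n) = _
  rw [LinearMap.liftBaseChange_tmul, one_smul]

end LocCotangentSpace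

section ChartFp

variable (A C A₀ : Type u) [CommRing A] [CommRing C] [CommRing A₀] [Algebra A C] [Algebra A A₀]
  [Algebra C A₀] [IsScalarTower A C A₀]

/-- A local retraction gives, after multiplication by a power of `g`, a section of the cotangent
complex. -/
theorem exists_lift_smul_of_local_retraction
    (hsurj : Function.Surjective (algebraMap A A₀))
    (hC : Function.Surjective (algebraMap C A₀))
    [Module.FinitePresentation A₀ (ext A C A₀ hC).CotangentSpace]
    (g : A)
    (Aloc A₀loc C' : Type u) [CommRing Aloc] [CommRing A₀loc] [CommRing C']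
    [Algebra A Aloc] [IsLocalization.Away g Aloc]
    [Algebra A₀ A₀loc] [IsLocalization.Away (algebraMap A A₀ g) A₀loc]
    [Algebra C C'] [IsLocalization.Away (algebraMap A C g) C']
    (π : Aloc →+* A₀loc)
    (hπ : ∀ a, π (algebraMap A Aloc a) = algebraMap A₀ A₀loc (algebraMap A A₀ a))
    (χ : C' →+* A₀loc)
    (hχ : ∀ c, χ (algebraMap C C' c) = algebraMap A₀ A₀loc (algebraMap C A₀ c))
    (ρ : C →+* Aloc) (hρ1 : ∀ a, ρ (algebraMap A C a) = algebraMap A Aloc a)
    (hρ2 : ∀ k, algebraMap C A₀ k = 0 → π (ρ k) = 0) :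
    ∃ (h : (ext A C A₀ hC).CotangentSpace →ₗ[A₀] (ext A C A₀ hC).Cotangent) (n : ℕ),
      ∀ y, (ext A C A₀ hC).cotangentComplex (h y) = (algebraMap A A₀ g ^ n) • y := by
  haveI : IsLocalization.Away (algebraMap C A₀ (algebraMap A C g)) A₀loc := by
    rw [← IsScalarTower.algebraMap_apply A C A₀]; infer_instance
  have hχsurj : Function.Surjective χ :=
    surjective_of_away (algebraMap C A₀) hC (algebraMap A C g) χ hχ
  -- compatibility of `ρ` with the augmentations
  have hρπ : ∀ c, π (ρ c) = algebraMap A₀ A₀loc (algebraMap C A₀ c) := by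
    intro c
    obtain ⟨a, ha⟩ := hsurj (algebraMap C A₀ c)
    have hk : algebraMap C A₀ (c - algebraMap A C a) = 0 := by
      rw [map_sub, ← IsScalarTower.algebraMap_apply A C A₀, ha, sub_self]
    have := hρ2 _ hk
    rw [map_sub, map_sub, hρ1, hπ, ha, sub_eq_zero] at this
    exact this
  letI : Algebra A C' := ((algebraMap C C').comp (algebraMap A C)).toAlgebra
  haveI : IsScalarTower A C C' := IsScalarTower.of_algebraMap_eq' rfl
  letI : Algebra A A₀loc := ((algebraMap A₀ A₀loc).comp (algebraMap A A₀)).toAlgebra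
  haveI : IsScalarTower A A₀ A₀loc := IsScalarTower.of_algebraMap_eq' rfl
  letI : Algebra C' A₀loc := χ.toAlgebra
  haveI : IsScalarTower A C' A₀loc := IsScalarTower.of_algebraMap_eq' (by
    ext a
    show algebraMap A₀ A₀loc (algebraMap A A₀ a) = χ (algebraMap C C' (algebraMap A C a))
    rw [hχ, ← IsScalarTower.algebraMap_apply A C A₀])
  letI : Algebra C A₀loc := ((algebraMap A₀ A₀loc).comp (algebraMap C A₀)).toAlgebra
  haveI : IsScalarTower C A₀ A₀loc := IsScalarTower.of_algebraMap_eq' rfl
  haveI : IsScalarTower C C' A₀loc := IsScalarTower.of_algebraMap_eq' (by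
    ext c
    exact (hχ c).symm)
  haveI : Algebra.FormallyEtale C C' :=
    Algebra.FormallyEtale.of_isLocalization (Submonoid.powers (algebraMap A C g))
  have hC' : Function.Surjective (algebraMap C' A₀loc) := hχsurj
  -- the localized retraction and inclusion
  have hu1 : IsUnit (ρ (algebraMap A C g)) := by
    rw [hρ1]; exact IsLocalization.Away.algebraMap_isUnit g
  have hu2 : IsUnit (((algebraMap C C').comp (algebraMap A C)) g) :=
    IsLocalization.Away.algebraMap_isUnit (algebraMap A C g)
  let ρ' : C' →+* Aloc := IsLocalization.Away.lift (algebraMap A C g) hu1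
  let φ' : Aloc →+* C' := IsLocalization.Away.lift g hu2
  have hρ' : ∀ c, ρ' (algebraMap C C' c) = ρ c := fun c => IsLocalization.Away.lift_eq _ hu1 c
  have hφ' : ∀ a, φ' (algebraMap A Aloc a) = algebraMap C C' (algebraMap A C a) := fun a =>
    IsLocalization.Away.lift_eq _ hu2 a
  obtain ⟨σ', hσ'⟩ := exists_section_cotangentComplex_of_retraction (ext A C' A₀loc hC') Aloc
    φ' ρ' π
    (fun c' => by
      have : π.comp ρ' = χ := by
        apply IsLocalization.ringHom_ext (Submonoid.powers (algebraMap A C g))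
        ext c
        show π (ρ' (algebraMap C C' c)) = χ (algebraMap C C' c)
        rw [hρ', hρπ, hχ]
      exact congrArg (fun f : C' →+* A₀loc => f c') this)
    (fun b => by
      have : χ.comp φ' = π := by
        apply IsLocalization.ringHom_ext (Submonoid.powers g)
        ext a
        show χ (φ' (algebraMap A Aloc a)) = π (algebraMap A Aloc a)
        rw [hφ', hχ, hπ, ← IsScalarTower.algebraMap_apply A C A₀]
      exact congrArg (fun f : Aloc →+* A₀loc => f b) this)
    (fun a => by
      show φ' (ρ' (algebraMap C C' (algebraMap A C a))) = algebraMap C C' (algebraMap A C a)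
      rw [hρ', hρ1, hφ'])
    (fun b => by
      obtain ⟨n, a, ha⟩ := IsLocalization.Away.surj g b
      have h1 : φ' b * (algebraMap A C' g) ^ n = algebraMap A C' a := by
        have := congrArg φ' ha
        rw [map_mul, map_pow, hφ', hφ'] at this
        exact this
      have h2 := congrArg (D A C') h1
      rw [Derivation.leibniz, Derivation.leibniz_pow, Derivation.map_algebraMap,
        Derivation.map_algebraMap, smul_zero, smul_zero, smul_zero, zero_add] at h2
      have hu : IsUnit ((algebraMap A C' g) ^ n) := hu2.pow n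
      exact (hu.smul_eq_zero).mp h2)
  -- the localization maps
  haveI hlM := isLocalizedModule_cotangent_map A C A₀ hC C' A₀loc hC' (algebraMap A C g)
  haveI hlN := isLocalizedModule_cotangentSpace_map A C A₀ hC C' A₀loc hC'
    (algebraMap C A₀ (algebraMap A C g))
  let F := extHom A C A₀ hC C' A₀loc hC'
  let g' : (ext A C A₀ hC).CotangentSpace →ₗ[A₀] (ext A C' A₀loc hC').Cotangent :=
    (σ'.restrictScalars A₀) ∘ₗ Extension.CotangentSpace.map F
  obtain ⟨h, s, hs⟩ := Module.FinitePresentation.exists_lift_of_isLocalizedModule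
    (Submonoid.powers (algebraMap C A₀ (algebraMap A C g))) (Extension.Cotangent.map F) g'
  have H₁ : Extension.CotangentSpace.map F ∘ₗ ((ext A C A₀ hC).cotangentComplex ∘ₗ h) =
      Extension.CotangentSpace.map F ∘ₗ (s • LinearMap.id) := by
    refine LinearMap.ext fun y => ?_
    show Extension.CotangentSpace.map F ((ext A C A₀ hC).cotangentComplex (h y)) =
      Extension.CotangentSpace.map F (s • y)
    rw [Extension.CotangentSpace.map_cotangentComplex]
    have h3 : Extension.Cotangent.map F (h y) = s • g' y := LinearMap.congr_fun hs y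
    rw [h3, Submonoid.smul_def, Submonoid.smul_def, map_smul (Extension.CotangentSpace.map F),
      ← algebraMap_smul A₀loc (s : A₀) (g' y), map_smul, algebraMap_smul]
    congr 1
    exact hσ' _
  obtain ⟨s', hs'⟩ := Module.Finite.exists_smul_of_comp_eq_of_isLocalizedModule
    (Submonoid.powers (algebraMap C A₀ (algebraMap A C g)))
    (Extension.CotangentSpace.map F) _ _ H₁
  obtain ⟨_, a, rfl⟩ := s
  obtain ⟨_, b, rfl⟩ := s'
  refine ⟨(algebraMap C A₀ (algebraMap A C g) ^ b) • h, a + b, fun y => ?_⟩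
  have h4 := LinearMap.congr_fun hs' y
  simp only [Submonoid.smul_def, LinearMap.smul_apply, LinearMap.comp_apply,
    LinearMap.id_apply] at h4
  rw [LinearMap.smul_apply, map_smul, h4, smul_smul, ← pow_add, add_comm b a,
    ← IsScalarTower.algebraMap_apply A C A₀]

end ChartFp

section SpanFp

/-- Finite presentation of a module can be checked on a cover by basic opens (indexed form). -/
theorem finitePresentation_of_span_away (R : Type u) [CommRing R] {ι : Type u} (g : ι → R)
    (S : ι → Type u) [∀ i, CommRing (S i)] [∀ i, Algebra R (S i)]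
    [∀ i, IsLocalization.Away (g i) (S i)] (N : Type u) [AddCommGroup N] [Module R N]
    (hg : Ideal.span (Set.range g) = ⊤)
    (h : ∀ i, Module.FinitePresentation (S i) (S i ⊗[R] N)) : Module.FinitePresentation R N := by
  classical
  let s : Set R := Set.range g
  let idx : s → ι := fun x => x.2.choose
  have hidx : ∀ x : s, g (idx x) = x.1 := fun x => x.2.choose_spec
  haveI : ∀ x : s, IsLocalization.Away x.1 (S (idx x)) := fun x => by
    have := hidx x
    rw [← this]
    infer_instance
  haveI : ∀ x : s, IsLocalizedModule (Submonoid.powers x.1)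
      (TensorProduct.mk R (S (idx x)) N 1) := fun x =>
    (isLocalizedModule_iff_isBaseChange (Submonoid.powers x.1) (S (idx x)) _).mpr
      (TensorProduct.isBaseChange R N (S (idx x)))
  exact Module.FinitePresentation.of_localizationSpan' s hg (Rₚ := fun x => S (idx x))
    (Mₚ := fun x => S (idx x) ⊗[R] N)
    (fun x => TensorProduct.mk R (S (idx x)) N 1) (fun x => h (idx x))

end SpanFp

section GlobalFp

variable (A C A₀ : Type u) [CommRing A] [CommRing C] [CommRing A₀] [Algebra A C] [Algebra A A₀]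
  [Algebra C A₀] [IsScalarTower A C A₀]

/-- Local retractions on a finite cover by basic opens, plus local finite presentation of the
cotangent space, give a global retraction. -/
theorem exists_retraction_of_local_fp
    (hsurj : Function.Surjective (algebraMap A A₀))
    (hI : ∀ x y : A, algebraMap A A₀ x = 0 → algebraMap A A₀ y = 0 → x * y = 0)
    {ι : Type u} [Finite ι] (g : ι → A) (hg : Ideal.span (Set.range g) = ⊤)
    (Aloc : ι → Type u) [∀ j, CommRing (Aloc j)] [∀ j, Algebra A (Aloc j)]
    [∀ j, IsLocalization.Away (g j) (Aloc j)]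
    (A₀loc : ι → Type u) [∀ j, CommRing (A₀loc j)] [∀ j, Algebra A₀ (A₀loc j)]
    [∀ j, IsLocalization.Away (algebraMap A A₀ (g j)) (A₀loc j)]
    (C' : ι → Type u) [∀ j, CommRing (C' j)] [∀ j, Algebra C (C' j)]
    [∀ j, IsLocalization.Away (algebraMap A C (g j)) (C' j)]
    (π : ∀ j, Aloc j →+* A₀loc j)
    (hπ : ∀ j a, π j (algebraMap A (Aloc j) a) = algebraMap A₀ (A₀loc j) (algebraMap A A₀ a))
    (χ : ∀ j, C' j →+* A₀loc j)
    (hχ : ∀ j c, χ j (algebraMap C (C' j) c) = algebraMap A₀ (A₀loc j) (algebraMap C A₀ c))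
    (hlift : ∀ j, ∃ ρ : C →+* Aloc j, (∀ a, ρ (algebraMap A C a) = algebraMap A (Aloc j) a) ∧
      ∀ k, algebraMap C A₀ k = 0 → π j (ρ k) = 0)
    (hfp : ∀ j, Module.FinitePresentation (A₀loc j) (A₀loc j ⊗[A₀] (A₀ ⊗[C] Ω[C⁄A]))) :
    ∃ ρ : C →ₐ[A] A, ∀ c, algebraMap A A₀ (ρ c) = algebraMap C A₀ c := by
  classical
  cases nonempty_fintype ι
  have hC : Function.Surjective (algebraMap C A₀) := by
    intro y
    obtain ⟨a, rfl⟩ := hsurj y
    exact ⟨algebraMap A C a, (IsScalarTower.algebraMap_apply A C A₀ a).symm⟩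
  have hspan : Ideal.span (Set.range fun j => algebraMap A A₀ (g j)) = ⊤ := by
    have h1 := congrArg (Ideal.map (algebraMap A A₀)) hg
    rw [Ideal.map_span, Ideal.map_top, ← Set.range_comp] at h1
    exact h1
  have hfpQ : Module.FinitePresentation A₀ (A₀ ⊗[C] Ω[C⁄A]) :=
    finitePresentation_of_span_away A₀ (fun j => algebraMap A A₀ (g j)) A₀loc _ hspan hfp
  haveI : Module.FinitePresentation A₀ (ext A C A₀ hC).CotangentSpace := hfpQ
  -- square zero kernels
  have hsq : ∀ j (u v : Aloc j), π j u = 0 → π j v = 0 → u * v = 0 := fun j =>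
    sq_zero_of_away (algebraMap A A₀) hI (g j) (π j) (hπ j)
  -- injectivity
  have hinj : ∀ x : A, algebraMap A A₀ x = 0 →
      algebraMap A C x ∈ (RingHom.ker (algebraMap C A₀)) ^ 2 → x = 0 := by
    intro x hx hxK
    let J : Ideal A := Ideal.span {x} |>.annihilator
    have hJ : ∀ j, ∃ n, g j ^ n ∈ J := by
      intro j
      obtain ⟨ρ, hρ1, hρ2⟩ := hlift j
      have h1 : ∀ y ∈ (RingHom.ker (algebraMap C A₀)) ^ 2, ρ y = 0 := by
        intro y hy
        rw [pow_two] at hy
        refine Submodule.mul_induction_on hy ?_ ?_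
        · intro k hk k' hk'
          rw [map_mul]
          exact hsq j _ _ (hρ2 k (RingHom.mem_ker.mp hk)) (hρ2 k' (RingHom.mem_ker.mp hk'))
        · intro y y' hy hy'
          rw [map_add, hy, hy', add_zero]
      have h2 : algebraMap A (Aloc j) x = 0 := by rw [← hρ1, h1 _ hxK]
      obtain ⟨n, hn⟩ := IsLocalization.Away.exists_of_eq (g j)
        (h2.trans (map_zero (algebraMap A (Aloc j))).symm)
      refine ⟨n, ?_⟩
      rw [mul_zero] at hn
      show g j ^ n ∈ (Ideal.span {x}).annihilator
      rw [Submodule.mem_annihilator_span_singleton]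
      exact hn
    have hJtop : J = ⊤ := by
      by_contra hne
      obtain ⟨m, hm, hJm⟩ := Ideal.exists_le_maximal J hne
      have : Ideal.span (Set.range g) ≤ m := by
        rw [Ideal.span_le]
        rintro _ ⟨j, rfl⟩
        obtain ⟨n, hn⟩ := hJ j
        exact hm.isPrime.mem_of_pow_mem n (hJm hn)
      rw [hg] at this
      exact hm.ne_top (top_le_iff.mp this)
    have h1 : (1 : A) ∈ J := hJtop ▸ Submodule.mem_top
    have h2 := (Submodule.mem_annihilator_span_singleton x 1).mp h1
    rwa [one_smul] at h2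
  -- local sections up to powers
  choose h n hn using fun j => exists_lift_smul_of_local_retraction A C A₀ hsurj hC (g j)
    (Aloc j) (A₀loc j) (C' j) (π j) (hπ j) (χ j) (hχ j) (hlift j).choose
    (hlift j).choose_spec.1 (hlift j).choose_spec.2
  have hspan' : Ideal.span (Set.range fun j => algebraMap A A₀ (g j) ^ n j) = ⊤ := by
    by_contra hne
    obtain ⟨m, hm, hJm⟩ := Ideal.exists_le_maximal _ hne
    have : Ideal.span (Set.range fun j => algebraMap A A₀ (g j)) ≤ m := by
      rw [Ideal.span_le]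
      rintro _ ⟨j, rfl⟩
      exact hm.isPrime.mem_of_pow_mem (n j) (hJm (Ideal.subset_span ⟨j, rfl⟩))
    rw [hspan] at this
    exact hm.ne_top (top_le_iff.mp this)
  obtain ⟨c, hc⟩ := (Ideal.mem_span_range_iff_exists_fun).mp
    (hspan' ▸ Submodule.mem_top : (1 : A₀) ∈ Ideal.span (Set.range fun j =>
      algebraMap A A₀ (g j) ^ n j))
  let σ : (ext A C A₀ hC).CotangentSpace →ₗ[A₀] (ext A C A₀ hC).Cotangent :=
    ∑ j, c j • h j
  have hσ : ∀ y, (ext A C A₀ hC).cotangentComplex (σ y) = y := by
    intro y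
    show (ext A C A₀ hC).cotangentComplex ((∑ j, c j • h j) y) = y
    rw [LinearMap.sum_apply, map_sum]
    simp only [LinearMap.smul_apply, map_smul, hn, smul_smul]
    rw [← Finset.sum_smul, hc, one_smul]
  exact exists_retraction_of_section A C A₀ hsurj hI hC σ hσ hinj

end GlobalFp

section ChartFp2

variable (A C A₀ : Type u) [CommRing A] [CommRing C] [CommRing A₀] [Algebra A C] [Algebra A A₀]
  [Algebra C A₀] [IsScalarTower A C A₀]

/-- One finitely presented chart with a local section gives a local lift and local finite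
presentation of the cotangent space. -/
theorem chart_lift_and_fp
    (hsurj : Function.Surjective (algebraMap A A₀))
    (hI : ∀ x y : A, algebraMap A A₀ x = 0 → algebraMap A A₀ y = 0 → x * y = 0)
    (g : A)
    (Aloc A₀loc C' R : Type u) [CommRing Aloc] [CommRing A₀loc] [CommRing C'] [CommRing R]
    [Algebra A Aloc] [IsLocalization.Away g Aloc]
    [Algebra A₀ A₀loc] [IsLocalization.Away (algebraMap A A₀ g) A₀loc]
    [Algebra C C'] [IsLocalization.Away (algebraMap A C g) C']
    (π : Aloc →+* A₀loc)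
    (hπ : ∀ a, π (algebraMap A Aloc a) = algebraMap A₀ A₀loc (algebraMap A A₀ a))
    (χ : C' →+* A₀loc)
    (hχ : ∀ c, χ (algebraMap C C' c) = algebraMap A₀ A₀loc (algebraMap C A₀ c))
    (r : A →+* R) (hr : r.FinitePresentation)
    (ψ : R →+* C') (hψ : Function.Surjective ψ)
    (hψr : ∀ a, ψ (r a) = algebraMap C C' (algebraMap A C a))
    (hker : RingHom.ker ψ = (RingHom.ker (χ.comp ψ)) ^ 2)
    (lam : R →+* Aloc) (hlam1 : ∀ a, lam (r a) = algebraMap A Aloc a)
    (hlam2 : ∀ x, π (lam x) = χ (ψ x)) :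
    (∃ ρ : C →+* Aloc, (∀ a, ρ (algebraMap A C a) = algebraMap A Aloc a) ∧
      ∀ k, algebraMap C A₀ k = 0 → π (ρ k) = 0) ∧
    Module.FinitePresentation A₀loc (A₀loc ⊗[A₀] (A₀ ⊗[C] Ω[C⁄A])) := by
  have hπsq := sq_zero_of_away (algebraMap A A₀) hI g π hπ
  have hC : Function.Surjective (algebraMap C A₀) := by
    intro y
    obtain ⟨a, rfl⟩ := hsurj y
    exact ⟨algebraMap A C a, (IsScalarTower.algebraMap_apply A C A₀ a).symm⟩
  haveI : IsLocalization.Away (algebraMap C A₀ (algebraMap A C g)) A₀loc := by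
    rw [← IsScalarTower.algebraMap_apply A C A₀]; infer_instance
  have hχsurj : Function.Surjective χ :=
    surjective_of_away (algebraMap C A₀) hC (algebraMap A C g) χ hχ
  letI : Algebra A R := r.toAlgebra
  haveI : Algebra.FinitePresentation A R := hr
  letI : Algebra A C' := ((algebraMap C C').comp (algebraMap A C)).toAlgebra
  haveI : IsScalarTower A C C' := IsScalarTower.of_algebraMap_eq' rfl
  letI : Algebra A A₀loc := ((algebraMap A₀ A₀loc).comp (algebraMap A A₀)).toAlgebra
  haveI : IsScalarTower A A₀ A₀loc := IsScalarTower.of_algebraMap_eq' rfl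
  letI : Algebra C' A₀loc := χ.toAlgebra
  haveI : IsScalarTower A C' A₀loc := IsScalarTower.of_algebraMap_eq' (by
    ext a
    show algebraMap A₀ A₀loc (algebraMap A A₀ a) = χ (algebraMap C C' (algebraMap A C a))
    rw [hχ, ← IsScalarTower.algebraMap_apply A C A₀])
  letI : Algebra C A₀loc := ((algebraMap A₀ A₀loc).comp (algebraMap C A₀)).toAlgebra
  haveI : IsScalarTower C A₀ A₀loc := IsScalarTower.of_algebraMap_eq' rfl
  haveI : IsScalarTower C C' A₀loc := IsScalarTower.of_algebraMap_eq' (by
    ext c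
    exact (hχ c).symm)
  haveI : Algebra.FormallyEtale C C' :=
    Algebra.FormallyEtale.of_isLocalization (Submonoid.powers (algebraMap A C g))
  letI : Algebra R A₀loc := (χ.comp ψ).toAlgebra
  haveI : IsScalarTower A R A₀loc := IsScalarTower.of_algebraMap_eq' (by
    ext a
    show algebraMap A₀ A₀loc (algebraMap A A₀ a) = χ (ψ (r a))
    rw [hψr, hχ, ← IsScalarTower.algebraMap_apply A C A₀])
  let ψalg : R →ₐ[A] C' := { ψ with commutes' := fun a => hψr a }
  have hψalg : Function.Surjective ψalg := hψ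
  constructor
  · have hlam3 : ∀ x ∈ (RingHom.ker (χ.comp ψ)) ^ 2, lam x = 0 := by
      intro x hx
      rw [pow_two] at hx
      refine Submodule.mul_induction_on hx ?_ ?_
      · intro m hm n hn
        rw [map_mul]
        apply hπsq
        · rw [hlam2]; exact RingHom.mem_ker.mp hm
        · rw [hlam2]; exact RingHom.mem_ker.mp hn
      · intro x y hx hy
        rw [map_add, hx, hy, add_zero]
    let ρ' : C' →+* Aloc := RingHom.liftOfSurjective ψ hψ
      ⟨lam, fun x hx => RingHom.mem_ker.mpr (hlam3 x (hker ▸ hx))⟩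
    have hρ' : ∀ x, ρ' (ψ x) = lam x := fun x =>
      RingHom.liftOfSurjective_comp_apply ψ hψ _ x
    refine ⟨ρ'.comp (algebraMap C C'), ?_, ?_⟩
    · intro a
      show ρ' (algebraMap C C' (algebraMap A C a)) = _
      rw [← hψr, hρ', hlam1]
    · intro k hk
      show π (ρ' (algebraMap C C' k)) = 0
      obtain ⟨x, hx⟩ := hψ (algebraMap C C' k)
      rw [← hx, hρ', hlam2, hx, hχ, hk, map_zero]
  · exact finitePresentation_baseChange_cotangentSpace_of_chart A C A₀ hC C' A₀loc R ψalg hψalg
      (fun _ => rfl) (hχsurj.comp hψ) hker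

end ChartFp2

/-- **Square-zero retractions from finitely presented charts with local sections.**
Instance-free form. -/
theorem exists_retraction_of_fp_charts
    (A C A₀ : Type u) [CommRing A] [CommRing C] [CommRing A₀]
    (φ : A →+* C) (κ : C →+* A₀)
    (hsurj : Function.Surjective (κ.comp φ))
    (hI : ∀ x y : A, κ (φ x) = 0 → κ (φ y) = 0 → x * y = 0)
    {ι : Type u} [Finite ι] (g : ι → A) (hg : Ideal.span (Set.range g) = ⊤)
    (Aloc A₀loc C' R : ι → Type u) [∀ j, CommRing (Aloc j)] [∀ j, CommRing (A₀loc j)]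
    [∀ j, CommRing (C' j)] [∀ j, CommRing (R j)]
    (lA : ∀ j, A →+* Aloc j)
    (hlA : ∀ j, @IsLocalization.Away A _ (g j) (Aloc j) _ (lA j).toAlgebra)
    (lA₀ : ∀ j, A₀ →+* A₀loc j)
    (hlA₀ : ∀ j, @IsLocalization.Away A₀ _ (κ (φ (g j))) (A₀loc j) _ (lA₀ j).toAlgebra)
    (lC : ∀ j, C →+* C' j)
    (hlC : ∀ j, @IsLocalization.Away C _ (φ (g j)) (C' j) _ (lC j).toAlgebra)
    (π : ∀ j, Aloc j →+* A₀loc j) (hπ : ∀ j a, π j (lA j a) = lA₀ j (κ (φ a)))
    (χ : ∀ j, C' j →+* A₀loc j) (hχ : ∀ j c, χ j (lC j c) = lA₀ j (κ c))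
    (r : ∀ j, A →+* R j) (hr : ∀ j, (r j).FinitePresentation)
    (ψ : ∀ j, R j →+* C' j) (hψ : ∀ j, Function.Surjective (ψ j))
    (hψr : ∀ j a, ψ j (r j a) = lC j (φ a))
    (hker : ∀ j, RingHom.ker (ψ j) = (RingHom.ker ((χ j).comp (ψ j))) ^ 2)
    (lam : ∀ j, R j →+* Aloc j) (hlam1 : ∀ j a, lam j (r j a) = lA j a)
    (hlam2 : ∀ j x, π j (lam j x) = χ j (ψ j x)) :
    ∃ ρ : C →+* A, (∀ a, ρ (φ a) = a) ∧ ∀ c, κ (φ (ρ c)) = κ c := by
  letI : Algebra A C := φ.toAlgebra
  letI : Algebra C A₀ := κ.toAlgebra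
  letI : Algebra A A₀ := (κ.comp φ).toAlgebra
  haveI : IsScalarTower A C A₀ := IsScalarTower.of_algebraMap_eq' rfl
  letI : ∀ j, Algebra A (Aloc j) := fun j => (lA j).toAlgebra
  letI : ∀ j, Algebra A₀ (A₀loc j) := fun j => (lA₀ j).toAlgebra
  letI : ∀ j, Algebra C (C' j) := fun j => (lC j).toAlgebra
  haveI : ∀ j, IsLocalization.Away (g j) (Aloc j) := hlA
  haveI : ∀ j, IsLocalization.Away (algebraMap A A₀ (g j)) (A₀loc j) := hlA₀
  haveI : ∀ j, IsLocalization.Away (algebraMap A C (g j)) (C' j) := hlC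
  have key := fun j => chart_lift_and_fp A C A₀ hsurj hI (g j) (Aloc j) (A₀loc j) (C' j)
    (R j) (π j) (hπ j) (χ j) (hχ j) (r j) (hr j) (ψ j) (hψ j) (hψr j) (hker j) (lam j) (hlam1 j)
    (hlam2 j)
  obtain ⟨ρ, hρ⟩ := exists_retraction_of_local_fp A C A₀ hsurj hI g hg Aloc A₀loc C' π hπ χ hχ
    (fun j => (key j).1) (fun j => (key j).2)
  exact ⟨ρ.toRingHom, fun a => ρ.commutes a, hρ⟩

end Groth.Agent.Lib.Helper7.SqZero
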