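import Mathlib
import Groth.Agent.Lib.Helper7.SqZero.SchemeSection
import Groth.Agent.Lib.Helper7.SqZero.FpSplit

/-!
# Sections through square-zero thickenings from local sections (finite presentation case)
-/

set_option autoImplicit false

namespace Groth.Agent.Lib.Helper7.SqZero

universe u

open AlgebraicGeometry CategoryTheory Limits TopologicalSpace Opposite

/-- The ring map induced by a local section. -/
theorem exists_lam {Z T T₀ V V₀ : Scheme.{u}} (p : Z ⟶ T) (s₀ : T₀ ⟶ Z)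
    (j : V ⟶ T) (j₀ : V₀ ⟶ T₀) (i' : V₀ ⟶ V) (s : V ⟶ Z)
    [IsOpenImmersion j] [IsOpenImmersion j₀]
    (hij : i' ≫ j = j₀ ≫ (s₀ ≫ p)) (hs : s ≫ p = j) (hcompat : i' ≫ s = j₀ ≫ s₀)
    (D : T.Opens) (D₀ : T₀.Opens) (W : Z.Opens) (hD₀ : D₀ ≤ (s₀ ≫ p) ⁻¹ᵁ D)
    (hDj : D ≤ j.opensRange) (hD₀j : D₀ ≤ j₀.opensRange)
    (hVW : j ⁻¹ᵁ D ≤ s ⁻¹ᵁ W) (h2 : D₀ ≤ s₀ ⁻¹ᵁ W) :
    ∃ lam : Γ(Z, W) ⟶ Γ(T, D),
      p.appLE ⊤ W le_top ≫ lam = T.presheaf.map (homOfLE (le_top : D ≤ ⊤)).op ∧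
      lam ≫ (s₀ ≫ p).appLE D D₀ hD₀ = s₀.appLE W D₀ h2 := by
  haveI : IsIso (j.app D) := j.isIso_app D hDj
  haveI : IsIso (j₀.app D₀) := j₀.isIso_app D₀ hD₀j
  refine ⟨s.appLE W (j ⁻¹ᵁ D) hVW ≫ inv (j.app D), ?_, ?_⟩
  · rw [← Category.assoc, IsIso.comp_inv_eq, Scheme.Hom.appLE_comp_appLE]
    rw [appLE_congr_hom hs]
    rw [Scheme.Hom.app_eq_appLE, Scheme.Hom.map_appLE]
  · have hU₀ : j₀ ⁻¹ᵁ D₀ ≤ i' ⁻¹ᵁ (j ⁻¹ᵁ D) := by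
      rw [← Scheme.Hom.comp_preimage, hij, Scheme.Hom.comp_preimage]
      exact Scheme.Hom.preimage_mono _ hD₀
    have e1 : (s₀ ≫ p).appLE D D₀ hD₀ ≫ j₀.app D₀ = j.app D ≫ i'.appLE (j ⁻¹ᵁ D) (j₀ ⁻¹ᵁ D₀) hU₀ := by
      rw [Scheme.Hom.app_eq_appLE, Scheme.Hom.app_eq_appLE, Scheme.Hom.appLE_comp_appLE,
        Scheme.Hom.appLE_comp_appLE]
      exact (appLE_congr_hom hij _ _ _).symm
    rw [← cancel_mono (j₀.app D₀), Category.assoc, e1, Category.assoc, IsIso.inv_hom_id_assoc,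
      Scheme.Hom.appLE_comp_appLE, Scheme.Hom.app_eq_appLE j₀, Scheme.Hom.appLE_comp_appLE]
    exact appLE_congr_hom hcompat _ _ _

/-- The local chart around a point of `T₀`, with the ring map of a local section. -/
theorem exists_chart_fp {Z T T₀ P₁ : Scheme.{u}} [IsAffine T] [IsAffine T₀]
    (p : Z ⟶ T) (s₀ : T₀ ⟶ Z) [IsClosedImmersion s₀] (ι₁ : P₁ ⟶ Z) [IsClosedImmersion ι₁]
    (j₁ : T₀ ⟶ P₁) (hj : j₁ ≫ ι₁ = s₀) (hj₁ : Function.Surjective j₁)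
    (hker : ι₁.ker = s₀.ker ^ 2)
    (hsurj : Function.Surjective (s₀ ≫ p).appTop)
    (t₀ : T₀) {V V₀ : Scheme.{u}} (j : V ⟶ T) (j₀ : V₀ ⟶ T₀) (i' : V₀ ⟶ V) (s : V ⟶ Z)
    [IsOpenImmersion j] [IsOpenImmersion j₀] (ht₀ : t₀ ∈ Set.range j₀)
    (hij : i' ≫ j = j₀ ≫ (s₀ ≫ p)) (hs : s ≫ p = j) (hcompat : i' ≫ s = j₀ ≫ s₀) :
    ∃ (g : Γ(T, ⊤)) (W : Z.Opens) (_ : IsAffineOpen W)
      (h1 : P₁.basicOpen ((ι₁ ≫ p).appTop g) ≤ ι₁ ⁻¹ᵁ W)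
      (h2 : T₀.basicOpen ((s₀ ≫ p).appTop g) ≤ s₀ ⁻¹ᵁ W)
      (lam : Γ(Z, W) ⟶ Γ(T, T.basicOpen g)),
      t₀ ∈ T₀.basicOpen ((s₀ ≫ p).appTop g) ∧
      Function.Surjective (ι₁.appLE W _ h1) ∧
      RingHom.ker (ι₁.appLE W _ h1).hom = (RingHom.ker (s₀.appLE W _ h2).hom) ^ 2 ∧
      p.appLE ⊤ W le_top ≫ lam = T.presheaf.map (homOfLE (le_top : T.basicOpen g ≤ ⊤)).op ∧
      lam ≫ (s₀ ≫ p).appLE (T.basicOpen g) (T₀.basicOpen ((s₀ ≫ p).appTop g))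
        (Scheme.preimage_basicOpen_top _ _).ge = s₀.appLE W _ h2 := by
  obtain ⟨y₀, rfl⟩ := ht₀
  -- the point of `V` and its images
  have hx1 : j (i' y₀) = (s₀ ≫ p) (j₀ y₀) := by
    rw [← Scheme.Hom.comp_apply, hij, Scheme.Hom.comp_apply]
  have hx2 : s (i' y₀) = s₀ (j₀ y₀) := by
    rw [← Scheme.Hom.comp_apply, hcompat, Scheme.Hom.comp_apply]
  obtain ⟨_, ⟨W₀, hW₀, rfl⟩, hzW₀, -⟩ := Z.isBasis_affineOpens.exists_subset_of_mem_open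
    (Set.mem_univ (s₀ (j₀ y₀))) isOpen_univ
  have hzW₀' : s₀ (j₀ y₀) ∈ W₀ := hzW₀
  -- the open of `T` where the section lands in `W₀`
  have htO : (s₀ ≫ p) (j₀ y₀) ∈ j ''ᵁ (s ⁻¹ᵁ W₀) := by
    refine ⟨i' y₀, ?_, hx1⟩
    show s (i' y₀) ∈ W₀
    rw [hx2]
    exact hzW₀'
  obtain ⟨g₁, hg₁le, hg₁mem⟩ := (isAffineOpen_top T).exists_basicOpen_le
    (V := j ''ᵁ (s ⁻¹ᵁ W₀)) ⟨_, htO⟩ (Opens.mem_top _)
  have ht₀O₀ : j₀ y₀ ∈ j₀.opensRange ⊓ s₀ ⁻¹ᵁ W₀ := ⟨⟨y₀, rfl⟩, hzW₀'⟩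
  obtain ⟨g₀, hg₀le, hg₀mem⟩ := (isAffineOpen_top T₀).exists_basicOpen_le
    (V := j₀.opensRange ⊓ s₀ ⁻¹ᵁ W₀) ⟨_, ht₀O₀⟩ (Opens.mem_top _)
  obtain ⟨g₂, rfl⟩ := hsurj g₀
  -- the function `g`
  have hD₀ : T₀.basicOpen ((s₀ ≫ p).appTop (g₁ * g₂)) =
      (s₀ ≫ p) ⁻¹ᵁ T.basicOpen g₁ ⊓ T₀.basicOpen ((s₀ ≫ p).appTop g₂) := by
    rw [map_mul, Scheme.basicOpen_mul, Scheme.preimage_basicOpen_top]
  have hD : T.basicOpen (g₁ * g₂) ≤ T.basicOpen g₁ := by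
    rw [Scheme.basicOpen_mul]; exact inf_le_left
  have hg₀le' : T₀.basicOpen ((s₀ ≫ p).appTop (g₁ * g₂)) ≤ j₀.opensRange ⊓ s₀ ⁻¹ᵁ W₀ := by
    rw [hD₀]; exact inf_le_right.trans hg₀le
  have hmem : j₀ y₀ ∈ T₀.basicOpen ((s₀ ≫ p).appTop (g₁ * g₂)) := by
    rw [hD₀]; exact ⟨hg₁mem, hg₀mem⟩
  generalize g₁ * g₂ = g at hD hg₀le' hmem
  let h : Γ(Z, W₀) := p.appLE ⊤ W₀ le_top g
  have hW : IsAffineOpen (Z.basicOpen h) := hW₀.basicOpen h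
  have hWeq : Z.basicOpen h = W₀ ⊓ p ⁻¹ᵁ (T.basicOpen g) := Scheme.basicOpen_appLE p W₀ ⊤ le_top g
  have h2 : s₀ ⁻¹ᵁ (Z.basicOpen h) = T₀.basicOpen ((s₀ ≫ p).appTop g) := by
    rw [hWeq, Scheme.Hom.preimage_inf, ← Scheme.Hom.comp_preimage, Scheme.preimage_basicOpen_top]
    exact inf_eq_right.mpr (hg₀le'.trans inf_le_right)
  have h1 : ι₁ ⁻¹ᵁ (Z.basicOpen h) = P₁.basicOpen ((ι₁ ≫ p).appTop g) := by
    have key : j₁ ⁻¹ᵁ (ι₁ ⁻¹ᵁ (Z.basicOpen h)) =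
        j₁ ⁻¹ᵁ (P₁.basicOpen ((ι₁ ≫ p).appTop g)) := by
      rw [← Scheme.Hom.comp_preimage, Scheme.preimage_basicOpen_top,
        ← CommRingCat.comp_apply, ← Scheme.Hom.comp_appTop, ← Category.assoc]
      rw [hj]
      exact h2
    refine TopologicalSpace.Opens.ext (Set.ext fun x => ?_)
    obtain ⟨t, rfl⟩ := hj₁ x
    exact iff_of_eq (congrArg (fun O : T₀.Opens => t ∈ O) key)
  have hVW : j ⁻¹ᵁ T.basicOpen g ≤ s ⁻¹ᵁ Z.basicOpen h := by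
    rw [hWeq, Scheme.Hom.preimage_inf, ← Scheme.Hom.comp_preimage, hs]
    refine le_inf ?_ le_rfl
    have := Scheme.Hom.preimage_mono j (hD.trans hg₁le)
    rwa [Scheme.Hom.preimage_image_eq] at this
  have hDj : T.basicOpen g ≤ j.opensRange :=
    (hD.trans hg₁le).trans (Scheme.Hom.image_le_opensRange _ _)
  obtain ⟨lam, hlam1, hlam2⟩ := exists_lam p s₀ j j₀ i' s hij hs hcompat (T.basicOpen g)
    (T₀.basicOpen ((s₀ ≫ p).appTop g)) (Z.basicOpen h) (Scheme.preimage_basicOpen_top _ _).ge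
    hDj (hg₀le'.trans inf_le_left) hVW h2.ge
  refine ⟨g, Z.basicOpen h, hW, h1.ge, h2.ge, lam, hmem, ?_, ?_, hlam1, hlam2⟩
  · exact surjective_appLE_of_eq ι₁ _ _ h1.symm (ι₁.app_surjective _ hW)
  · rw [ker_appLE_of_eq ι₁ _ _ h1.symm, ker_appLE_of_eq s₀ _ _ h2.symm,
      ← Scheme.Hom.ker_apply ι₁ ⟨_, hW⟩, hker, Scheme.IdealSheafData.ideal_pow, Pi.pow_apply,
      Scheme.Hom.ker_apply]

/-- Auxiliary form of `exists_section_of_isClosedImmersion_fp` with an abstract first-order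
neighbourhood `P₁`. -/
theorem exists_section_aux_fp {Z T T₀ P₁ : Scheme.{u}} [IsAffine T] [IsAffine T₀] [IsAffine P₁]
    (p : Z ⟶ T) [LocallyOfFinitePresentation p]
    (s₀ : T₀ ⟶ Z) [IsClosedImmersion s₀] (ι₁ : P₁ ⟶ Z) [IsClosedImmersion ι₁]
    (j₁ : T₀ ⟶ P₁) (hj : j₁ ≫ ι₁ = s₀) (hj₁ : Function.Surjective j₁)
    (hkerι : ι₁.ker = s₀.ker ^ 2)
    (hsurj : Function.Surjective (s₀ ≫ p).appTop)
    (hI : ∀ x y : Γ(T, ⊤), (s₀ ≫ p).appTop x = 0 → (s₀ ≫ p).appTop y = 0 → x * y = 0)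
    (hloc : ∀ t₀ : T₀, ∃ (V V₀ : Scheme.{u}) (j : V ⟶ T) (j₀ : V₀ ⟶ T₀) (i' : V₀ ⟶ V)
      (s : V ⟶ Z), IsOpenImmersion j ∧ IsOpenImmersion j₀ ∧ t₀ ∈ Set.range j₀ ∧
      i' ≫ j = j₀ ≫ (s₀ ≫ p) ∧ s ≫ p = j ∧ i' ≫ s = j₀ ≫ s₀) :
    ∃ s : T ⟶ Z, s ≫ p = 𝟙 T ∧ (s₀ ≫ p) ≫ s = s₀ := by
  classical
  let φ : Γ(T, ⊤) →+* Γ(P₁, ⊤) := (ι₁ ≫ p).appTop.hom
  let κ : Γ(P₁, ⊤) →+* Γ(T₀, ⊤) := j₁.appTop.hom
  have hκφ : ∀ a, κ (φ a) = (s₀ ≫ p).appTop a := by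
    intro a
    have e : (ι₁ ≫ p).appTop ≫ j₁.appTop = (s₀ ≫ p).appTop := by
      rw [← Scheme.Hom.comp_appTop, ← Category.assoc, hj]
    exact congrArg (fun f : Γ(T, ⊤) ⟶ Γ(T₀, ⊤) => f.hom a) e
  -- charts
  have hchart : ∀ t₀ : T₀, ∃ (g : Γ(T, ⊤)) (W : Z.Opens) (_ : IsAffineOpen W)
      (h1 : P₁.basicOpen ((ι₁ ≫ p).appTop g) ≤ ι₁ ⁻¹ᵁ W)
      (h2 : T₀.basicOpen ((s₀ ≫ p).appTop g) ≤ s₀ ⁻¹ᵁ W)
      (lam : Γ(Z, W) ⟶ Γ(T, T.basicOpen g)),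
      t₀ ∈ T₀.basicOpen ((s₀ ≫ p).appTop g) ∧
      Function.Surjective (ι₁.appLE W _ h1) ∧
      RingHom.ker (ι₁.appLE W _ h1).hom = (RingHom.ker (s₀.appLE W _ h2).hom) ^ 2 ∧
      p.appLE ⊤ W le_top ≫ lam = T.presheaf.map (homOfLE (le_top : T.basicOpen g ≤ ⊤)).op ∧
      lam ≫ (s₀ ≫ p).appLE (T.basicOpen g) (T₀.basicOpen ((s₀ ≫ p).appTop g))
        (Scheme.preimage_basicOpen_top _ _).ge = s₀.appLE W _ h2 := by
    intro t₀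
    obtain ⟨V, V₀, j, j₀, i', s, hjo, hj₀o, ht₀, hij, hs, hcompat⟩ := hloc t₀
    exact exists_chart_fp p s₀ ι₁ j₁ hj hj₁ hkerι hsurj t₀ j j₀ i' s ht₀ hij hs hcompat
  choose g W hW h1 h2 lam hmem hψsurj hψker hlam1 hlam2 using hchart
  have hspan₀ : Ideal.span (Set.range fun t => (s₀ ≫ p).appTop (g t)) = ⊤ := by
    rw [← (isAffineOpen_top T₀).self_le_iSup_basicOpen_iff]
    intro t _
    rw [Opens.mem_iSup]
    exact ⟨⟨_, t, rfl⟩, hmem t⟩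
  have hspan : Ideal.span (Set.range g) = ⊤ := by
    have h1' : (1 : Γ(T₀, ⊤)) ∈ Ideal.map (s₀ ≫ p).appTop.hom (Ideal.span (Set.range g)) := by
      rw [Ideal.map_span, ← Set.range_comp]
      have : Ideal.span (Set.range ((s₀ ≫ p).appTop.hom ∘ g)) = ⊤ := hspan₀
      rw [this]
      trivial
    obtain ⟨a, ha, ha1⟩ := (Ideal.mem_map_iff_of_surjective _ hsurj).mp h1'
    have hz : (1 - a) * (1 - a) = 0 := by
      have h0 : (s₀ ≫ p).appTop (1 - a) = 0 := by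
        rw [map_sub, map_one]
        exact sub_eq_zero.mpr ha1.symm
      exact hI _ _ h0 h0
    rw [Ideal.eq_top_iff_one]
    have : (1 : Γ(T, ⊤)) = a * (2 - a) := by linear_combination hz
    rw [this]
    exact Ideal.mul_mem_right _ _ ha
  obtain ⟨s', hs', hs'top⟩ := (Ideal.span_eq_top_iff_finite _).mp hspan
  have hpick : ∀ x : (s' : Set Γ(T, ⊤)), ∃ t, g t = x.1 := fun x => hs' x.2
  choose τ hτ using hpick
  have hgτ : Ideal.span (Set.range fun j : (s' : Set Γ(T, ⊤)) => g (τ j)) = ⊤ := by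
    have : (Set.range fun j : (s' : Set Γ(T, ⊤)) => g (τ j)) = (s' : Set _) := by
      ext x
      constructor
      · rintro ⟨j, rfl⟩
        show g (τ j) ∈ _
        rw [hτ]
        exact j.2
      · intro hx
        exact ⟨⟨x, hx⟩, hτ ⟨x, hx⟩⟩
    rw [this]
    exact hs'top
  -- the ring-level theorem
  obtain ⟨ρ, hρ1, hρ2⟩ := exists_retraction_of_fp_charts Γ(T, ⊤) Γ(P₁, ⊤) Γ(T₀, ⊤) φ κ
    (fun y => by
      obtain ⟨a, ha⟩ := hsurj y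
      exact ⟨a, (hκφ a).trans ha⟩)
    (fun x y hx hy => hI x y ((hκφ x).symm.trans hx) ((hκφ y).symm.trans hy))
    (ι := (s' : Set Γ(T, ⊤))) (fun j => g (τ j)) hgτ
    (fun j => Γ(T, T.basicOpen (g (τ j))))
    (fun j => Γ(T₀, T₀.basicOpen ((s₀ ≫ p).appTop (g (τ j)))))
    (fun j => Γ(P₁, P₁.basicOpen ((ι₁ ≫ p).appTop (g (τ j)))))
    (fun j => Γ(Z, W (τ j)))
    (fun j => (T.presheaf.map (homOfLE (T.basicOpen_le (g (τ j)))).op).hom)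
    (fun j => (isAffineOpen_top T).isLocalization_basicOpen (g (τ j)))
    (fun j => (T₀.presheaf.map (homOfLE (T₀.basicOpen_le ((s₀ ≫ p).appTop (g (τ j))))).op).hom)
    (fun j => away_of_eq (hκφ (g (τ j))).symm
      ((isAffineOpen_top T₀).isLocalization_basicOpen ((s₀ ≫ p).appTop (g (τ j)))))
    (fun j => (P₁.presheaf.map (homOfLE (P₁.basicOpen_le ((ι₁ ≫ p).appTop (g (τ j))))).op).hom)
    (fun j => (isAffineOpen_top P₁).isLocalization_basicOpen ((ι₁ ≫ p).appTop (g (τ j))))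
    (fun j => ((s₀ ≫ p).appLE (T.basicOpen (g (τ j))) (T₀.basicOpen ((s₀ ≫ p).appTop (g (τ j))))
      (Scheme.preimage_basicOpen_top _ _).ge).hom)
    (fun j a => by
      rw [hκφ]
      exact appLE_res_top (s₀ ≫ p) _ _ _ a)
    (fun j => (j₁.appLE (P₁.basicOpen ((ι₁ ≫ p).appTop (g (τ j))))
      (T₀.basicOpen ((s₀ ≫ p).appTop (g (τ j))))
      (by
        rw [Scheme.preimage_basicOpen_top]
        exact (congrArg T₀.basicOpen (hκφ (g (τ j)))).ge)).hom)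
    (fun j c => appLE_res_top j₁ _ _ _ c)
    (fun j => (p.appLE ⊤ (W (τ j)) le_top).hom)
    (fun j => HasRingHomProperty.appLE @LocallyOfFinitePresentation p inferInstance
      ⟨⊤, isAffineOpen_top T⟩ ⟨W (τ j), hW (τ j)⟩ le_top)
    (fun j => (ι₁.appLE (W (τ j)) _ (h1 (τ j))).hom) (fun j => hψsurj (τ j))
    (fun j a => appLE_comp_apply_top ι₁ p _ _ _ a)
    (fun j => (hψker (τ j)).trans (congrArg (fun f => RingHom.ker f ^ 2)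
      (comp_appLE_hom j₁ ι₁ s₀ hj _ _ _ _ _ (h2 (τ j))).symm))
    (fun j => (lam (τ j)).hom)
    (fun j a => congrArg (fun f => f.hom a) (hlam1 (τ j)))
    (fun j x => by
      have e1 := congrArg (fun f => f.hom x) (hlam2 (τ j))
      have e2 := congrArg (fun f : Γ(Z, W (τ j)) →+* _ => f x)
        (comp_appLE_hom j₁ ι₁ s₀ hj (W (τ j)) _ _ (h1 (τ j)) (by
          rw [Scheme.preimage_basicOpen_top]
          exact (congrArg T₀.basicOpen (hκφ (g (τ j)))).ge) (h2 (τ j)))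
      exact e1.trans e2.symm)
  obtain ⟨σ, hσ⟩ := exists_hom_of_appTop (X := T) (Y := P₁) (CommRingCat.ofHom ρ)
  refine ⟨σ ≫ ι₁, ?_, ?_⟩
  · apply ext_of_isAffine
    rw [Category.assoc, Scheme.Hom.comp_appTop, hσ]
    ext a
    exact hρ1 a
  · have : (s₀ ≫ p) ≫ σ = j₁ := by
      apply ext_of_isAffine
      rw [Scheme.Hom.comp_appTop, hσ]
      ext c
      show (s₀ ≫ p).appTop (ρ c) = j₁.appTop c
      rw [← hκφ]
      exact hρ2 c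
    rw [← Category.assoc, this, hj]

/-- **Lifting sections through a square-zero thickening from local sections**
(closed immersion case). -/
theorem exists_section_of_isClosedImmersion_fp
    {Z T T₀ : Scheme.{u}} [IsAffine T] [IsAffine T₀]
    (p : Z ⟶ T) [LocallyOfFinitePresentation p] (s₀ : T₀ ⟶ Z) [IsClosedImmersion s₀]
    (hsurj : Function.Surjective (s₀ ≫ p).appTop)
    (hI : ∀ x y : Γ(T, ⊤), (s₀ ≫ p).appTop x = 0 → (s₀ ≫ p).appTop y = 0 → x * y = 0)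
    (hloc : ∀ t₀ : T₀, ∃ (V V₀ : Scheme.{u}) (j : V ⟶ T) (j₀ : V₀ ⟶ T₀) (i' : V₀ ⟶ V)
      (s : V ⟶ Z), IsOpenImmersion j ∧ IsOpenImmersion j₀ ∧ t₀ ∈ Set.range j₀ ∧
      i' ≫ j = j₀ ≫ (s₀ ≫ p) ∧ s ≫ p = j ∧ i' ≫ s = j₀ ≫ s₀) :
    ∃ s : T ⟶ Z, s ≫ p = 𝟙 T ∧ (s₀ ≫ p) ≫ s = s₀ := by
  classical
  let 𝒥 : Z.IdealSheafData := s₀.ker ^ 2
  let P₁ : Scheme.{u} := 𝒥.subscheme
  let ι₁ : P₁ ⟶ Z := 𝒥.subschemeι
  have hkerι : ι₁.ker = s₀.ker ^ 2 := 𝒥.ker_subschemeι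
  have hle : ι₁.ker ≤ s₀.ker := by
    rw [hkerι]
    intro U
    rw [Scheme.IdealSheafData.ideal_pow]
    exact Ideal.pow_le_self two_ne_zero
  let j₁ : T₀ ⟶ P₁ := IsClosedImmersion.lift ι₁ s₀ hle
  have hj : j₁ ≫ ι₁ = s₀ := IsClosedImmersion.lift_fac _ _ _
  haveI : IsClosedImmersion (j₁ ≫ ι₁) := by rw [hj]; infer_instance
  haveI : IsClosedImmersion j₁ := IsClosedImmersion.of_comp_isClosedImmersion j₁ ι₁
  have hj₁ : Function.Surjective j₁ := by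
    intro x
    have hx : ι₁ x ∈ Set.range s₀ := by
      have h1 : ι₁ x ∈ (𝒥.support : Set Z) := by
        rw [← 𝒥.range_subschemeι]; exact ⟨x, rfl⟩
      rw [show 𝒥.support = s₀.ker.support from
        Scheme.IdealSheafData.support_pow _ 2 two_ne_zero, Scheme.Hom.support_ker,
        s₀.isClosedEmbedding.isClosed_range.closure_eq] at h1
      exact h1
    obtain ⟨t, ht⟩ := hx
    refine ⟨t, ι₁.isClosedEmbedding.injective ?_⟩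
    rw [← ht, ← hj]
    rfl
  haveI : IsAffine P₁ :=
    Groth.Agent.Lib.Helper18.ThickAffine.isAffine_of_isClosedImmersion_of_surjective j₁ hj₁
  exact exists_section_aux_fp p s₀ ι₁ j₁ hj hj₁ hkerι hsurj hI hloc

/-- **Lifting sections through a square-zero thickening from local sections**
(immersion case). -/
theorem exists_section_of_isImmersion_fp
    {Z T T₀ : Scheme.{u}} [IsAffine T] [IsAffine T₀]
    (p : Z ⟶ T) [LocallyOfFinitePresentation p] (s₀ : T₀ ⟶ Z) [IsImmersion s₀]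
    (hsurj : Function.Surjective (s₀ ≫ p).appTop)
    (hI : ∀ x y : Γ(T, ⊤), (s₀ ≫ p).appTop x = 0 → (s₀ ≫ p).appTop y = 0 → x * y = 0)
    (hloc : ∀ t₀ : T₀, ∃ (V V₀ : Scheme.{u}) (j : V ⟶ T) (j₀ : V₀ ⟶ T₀) (i' : V₀ ⟶ V)
      (s : V ⟶ Z), IsOpenImmersion j ∧ IsOpenImmersion j₀ ∧ t₀ ∈ Set.range j₀ ∧
      i' ≫ j = j₀ ≫ (s₀ ≫ p) ∧ s ≫ p = j ∧ i' ≫ s = j₀ ≫ s₀) :
    ∃ s : T ⟶ Z, s ≫ p = 𝟙 T ∧ (s₀ ≫ p) ≫ s = s₀ := by
  have hc : s₀.liftCoborder ≫ s₀.coborderRange.ι = s₀ := s₀.liftCoborder_ι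
  have hcp : s₀.liftCoborder ≫ (s₀.coborderRange.ι ≫ p) = s₀ ≫ p := by
    rw [← Category.assoc, hc]
  have hloc' : ∀ t₀ : T₀, ∃ (V V₀ : Scheme.{u}) (j : V ⟶ T) (j₀ : V₀ ⟶ T₀) (i' : V₀ ⟶ V)
      (s : V ⟶ s₀.coborderRange.toScheme), IsOpenImmersion j ∧ IsOpenImmersion j₀ ∧
      t₀ ∈ Set.range j₀ ∧
      i' ≫ j = j₀ ≫ (s₀.liftCoborder ≫ (s₀.coborderRange.ι ≫ p)) ∧
      s ≫ (s₀.coborderRange.ι ≫ p) = j ∧ i' ≫ s = j₀ ≫ s₀.liftCoborder := by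
    intro t₀
    obtain ⟨V, V₀, j, j₀, i', s, hjo, hj₀o, ht₀, hij, hs, hcompat⟩ := hloc t₀
    haveI := hjo
    have hrange : Set.range i' ⊆ Set.range (s ⁻¹ᵁ s₀.coborderRange).ι := by
      rintro _ ⟨y, rfl⟩
      rw [Scheme.Opens.range_ι]
      have e : s (i' y) = s₀.coborderRange.ι (s₀.liftCoborder (j₀ y)) := by
        have h1 : s (i' y) = s₀ (j₀ y) := by
          rw [← Scheme.Hom.comp_apply, hcompat, Scheme.Hom.comp_apply]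
        have h2 : s₀.coborderRange.ι (s₀.liftCoborder (j₀ y)) = s₀ (j₀ y) := by
          rw [← Scheme.Hom.comp_apply, hc]
        rw [h1, h2]
      show s (i' y) ∈ s₀.coborderRange
      rw [e]
      exact (s₀.liftCoborder (j₀ y)).2
    have hi'' : IsOpenImmersion.lift (s ⁻¹ᵁ s₀.coborderRange).ι i' hrange ≫
        (s ⁻¹ᵁ s₀.coborderRange).ι = i' := IsOpenImmersion.lift_fac _ _ _
    have hs' : (s ∣_ s₀.coborderRange) ≫ s₀.coborderRange.ι =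
        (s ⁻¹ᵁ s₀.coborderRange).ι ≫ s := morphismRestrict_ι s s₀.coborderRange
    refine ⟨(s ⁻¹ᵁ s₀.coborderRange).toScheme, V₀, (s ⁻¹ᵁ s₀.coborderRange).ι ≫ j, j₀,
      IsOpenImmersion.lift (s ⁻¹ᵁ s₀.coborderRange).ι i' hrange, s ∣_ s₀.coborderRange,
      inferInstance, hj₀o, ht₀, ?_, ?_, ?_⟩
    · rw [← Category.assoc, hi'', hij, hcp]
    · rw [← Category.assoc, hs', Category.assoc, hs]
    · rw [← cancel_mono s₀.coborderRange.ι, Category.assoc, hs', ← Category.assoc, hi'', hcompat,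
        Category.assoc, hc]
  obtain ⟨s', hs'1, hs'2⟩ := exists_section_of_isClosedImmersion_fp (s₀.coborderRange.ι ≫ p)
    s₀.liftCoborder (by rw [hcp]; exact hsurj) (by rw [hcp]; exact hI) hloc'
  refine ⟨s' ≫ s₀.coborderRange.ι, by rw [Category.assoc]; exact hs'1, ?_⟩
  rw [← hcp, ← Category.assoc, hs'2, hc]

end Groth.Agent.Lib.Helper7.SqZero
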